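import Cfsg.Agent.Omega.TC.OfMul

/-!
# (E), `k ≥ 3`, `q ≥ 4` (bb #22703, #23165): the frame

`Y_j = C_G(Z_l : l ≠ j)`, `C_ij = C_G(Z_l : l ≠ i, j)`, `N_j = ⟨Z_j^{Y_j}⟩`, `T_j = S ∩ Y_j`, `D = C_G(Z_J)`.
-/

set_option autoImplicit false
set_option linter.unusedSectionVars false

namespace Cfsg.Agent.Omega.EK3.Q

open Subgroup Cfsg Cfsg.Agent.ZN.ChoiceBase
open Cfsg.Agent.ZN (jj zj bau zc zl o2)
open Cfsg.Agent.Omega.NO3S.EThree.Frame
open Cfsg.Agent.Omega.Node.MultiOf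

universe u

variable {G : Type u} [Group G] {k : ℕ}

/-- `Y_j = C_G(Z_l : l ≠ j)` -/
def YQ (Z : Fin k → Subgroup G) (j : Fin k) : Subgroup G := ⨅ l : {l : Fin k // l ≠ j}, centralizer (Z l : Set G)

/-- `C_ij = C_G(Z_l : l ≠ i, j)` -/
def CQ (Z : Fin k → Subgroup G) (i j : Fin k) : Subgroup G :=
  ⨅ l : {l : Fin k // l ≠ i ∧ l ≠ j}, centralizer (Z l : Set G)

/-- `N_j = ⟨Z_j^{Y_j}⟩` -/
def NQ (Z : Fin k → Subgroup G) (j : Fin k) : Subgroup G := NoFF.Basic.V (Z j) (YQ Z j)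

/-- `T_j = S ∩ Y_j` -/
def TY [Finite G] (S : Sylow 2 G) (Z : Fin k → Subgroup G) (j : Fin k) : Subgroup G := (S : Subgroup G) ⊓ YQ Z j

/-- **The frame of (E), `k ≥ 3`, `q ≥ 4`.** -/
structure FrQ [Finite G] (S : Sylow 2 G) (P K B ZJ : Subgroup G) (L W Z C : Fin k → Subgroup G) (q : ℕ) : Prop where
  mul : Mul S P K B ZJ L W Z C q
  three : 3 ≤ k
  four : 4 ≤ q
  /-- the only form of (TI) used -/
  ti : ∀ i j, i ≠ j → ∀ z ∈ Z i, z ≠ 1 → centralizer ({z} : Set G) ⊓ CQ Z i j ≤ normalizer (Z i : Set G)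
  /-- UNI+ at the level -/
  uni : ∀ L' V' : Subgroup G, FBl B L' V' → ∃ i, V' = W i ∧ ∀ z ∈ ZJ, z ∈ C i → ∀ l ∈ L', l * z = z * l
  /-- minimal parabolics over `T_j` which move `Ω₁(Z(T_j))`, `K ≰ O₂(R)`, contain a block -/
  blk : ∀ j, TC.OfMul.BlkS K B (TY S Z j)

theorem mem_YQ {Z : Fin k → Subgroup G} {j : Fin k} {x : G} :
    x ∈ YQ Z j ↔ ∀ l, l ≠ j → ∀ z ∈ Z l, x * z = z * x := by
  unfold YQ
  rw [mem_iInf]
  constructor
  · exact fun h l hl z hz => (mem_centralizer_iff.1 (h ⟨l, hl⟩) z hz).symm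
  · exact fun h l => mem_centralizer_iff.2 fun z hz => (h l l.2 z hz).symm

theorem mem_CQ {Z : Fin k → Subgroup G} {i j : Fin k} {x : G} :
    x ∈ CQ Z i j ↔ ∀ l, l ≠ i → l ≠ j → ∀ z ∈ Z l, x * z = z * x := by
  unfold CQ
  rw [mem_iInf]
  constructor
  · exact fun h l hi hj z hz => (mem_centralizer_iff.1 (h ⟨l, hi, hj⟩) z hz).symm
  · exact fun h l => mem_centralizer_iff.2 fun z hz => (h l l.2.1 l.2.2 z hz).symm

theorem CQ_comm (Z : Fin k → Subgroup G) (i j : Fin k) : CQ Z i j = CQ Z j i := by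
  ext x
  rw [mem_CQ, mem_CQ]
  exact ⟨fun h l hj hi => h l hi hj, fun h l hi hj => h l hj hi⟩

theorem YQ_le_left (Z : Fin k → Subgroup G) (i j : Fin k) : YQ Z i ≤ CQ Z i j := fun _ hx =>
  mem_CQ.2 fun l hi _ => mem_YQ.1 hx l hi

theorem YQ_le_right (Z : Fin k → Subgroup G) (i j : Fin k) : YQ Z j ≤ CQ Z i j := fun _ hx =>
  mem_CQ.2 fun l _ hj => mem_YQ.1 hx l hj

theorem YQ_cent {Z : Fin k → Subgroup G} {j l : Fin k} (hl : l ≠ j) : YQ Z j ≤ centralizer (Z l : Set G) :=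
  fun _ hx => mem_centralizer_iff.2 fun z hz => (mem_YQ.1 hx l hl z hz).symm

theorem CQ_cent {Z : Fin k → Subgroup G} {i j l : Fin k} (hi : l ≠ i) (hj : l ≠ j) :
    CQ Z i j ≤ centralizer (Z l : Set G) :=
  fun _ hx => mem_centralizer_iff.2 fun z hz => (mem_CQ.1 hx l hi hj z hz).symm

theorem YQ_eq_cent (Z : Fin k → Subgroup G) (j : Fin k) :
    YQ Z j = centralizer ((⨆ l : {l : Fin k // l ≠ j}, Z l : Subgroup G) : Set G) := by
  apply le_antisymm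
  · rw [le_centralizer_iff]
    exact iSup_le fun l => le_centralizer_iff.1 (YQ_cent l.2)
  · exact le_iInf fun l => centralizer_le (le_iSup (fun l : {l : Fin k // l ≠ j} => Z l) l)

theorem CQ_eq_cent (Z : Fin k → Subgroup G) (i j : Fin k) :
    CQ Z i j = centralizer ((⨆ l : {l : Fin k // l ≠ i ∧ l ≠ j}, Z l : Subgroup G) : Set G) := by
  apply le_antisymm
  · rw [le_centralizer_iff]
    exact iSup_le fun l => le_centralizer_iff.1 (CQ_cent l.2.1 l.2.2)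
  · exact le_iInf fun l => centralizer_le (le_iSup (fun l : {l : Fin k // l ≠ i ∧ l ≠ j} => Z l) l)

end Cfsg.Agent.Omega.EK3.Q
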