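import Cfsg.Agent.Omega.OM.FourF.Plug
import Cfsg.Agent.Omega.OM.FourF.Main
import Cfsg.Agent.Omega.FF.GlobEnd

/-!
# The CLAIM of (4F) at stage `-1`, one index

`D : Dt ..`, `|F| = 4`, `T ≤ S` normalises all `Z i`, `X` a minimal parabolic over `T` which centralises `Ω₁Z(T)`:
`neg_main` : `X ≤ N(Z i)` or `X ≤ N(W i)`.
-/

set_option autoImplicit false
set_option linter.unusedSectionVars false

namespace Cfsg.Agent.Omega.EK3.Q.ClaimNeg

open Subgroup Cfsg Cfsg.Agent.ZN.ChoiceBase Cfsg.Agent.ZN.ChoiceSit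
open Cfsg.Agent.ZN (jj zj bau zc zl o2)
open Cfsg.Agent.Lib.SL2Mat Cfsg.Agent.Omega.NatPair
open Cfsg.Agent.Omega.FFThm (NatK ActsSL)
open Cfsg.Agent.Omega.FrameFF (cv)
open Cfsg.Agent.Omega.OM Cfsg.Agent.Omega.OM.YThm Cfsg.Agent.Omega.OM.FourF
open Cfsg.Agent.Omega.OM.YThm.Plug (Dt)
open Cfsg.Agent.Omega.OM.Swap (AA_two mm_two)
open Cfsg.Agent.MinSimple.MinParabolic (IsMinPar)

universe u

variable {G : Type u} [Group G] [Finite G] {S : Sylow 2 G} {P : Subgroup G} {F : Type} [Field F] [Finite F]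
  [CharP F 2] {k : ℕ} {N : NatK F (S : Subgroup G) P (zl (S : Subgroup G) P) (cv (S : Subgroup G) P) k}
  {L W Z C A : Fin k → Subgroup G}

/-- `V` commutes with its conjugates under `X` -/
theorem comm_of (h : Line S P L W Z C A (Nat.card F)) {T X : Subgroup G} (hsyl : Syl T X)
    (hBT : bau (S : Subgroup G) ≤ T) (hV : zl (S : Subgroup G) P ≤ o2 X) {f : G} (hf : f ∈ X)
    {x y : G} (hx : x ∈ zl (S : Subgroup G) P) (hy : y ∈ zl (S : Subgroup G) P) :
    x * (f * y * f⁻¹) = f * y * f⁻¹ * x := by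
  have hTn := Swap.two_norm h hsyl.2.1 hBT
  have hO : o2 X ≤ T := o2_le_syl hsyl
  have hcO : cj f (o2 X) = o2 X := cj_eq_of_mem_normalizer (le_normalizer_o2 X hf)
  have h1 : cj f (zl (S : Subgroup G) P) ≤ normalizer (zl (S : Subgroup G) P : Set G) := by
    have := cj_mono f hV
    rw [hcO] at this
    exact (this.trans hO).trans hTn
  have h2 : zl (S : Subgroup G) P ≤ normalizer ((cj f (zl (S : Subgroup G) P) : Subgroup G) : Set G) := by
    have h3 := cj_mono f ((hO.trans hTn : o2 X ≤ normalizer (zl (S : Subgroup G) P : Set G)))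
    rw [hcO, cj_normalizer] at h3
    exact hV.trans h3
  by_contra hne
  refine h.hyp.noFF ⟨P, P, f, h.hyp.star, h.hyp.star, h2, h1, fun e => hne ?_⟩
  have h4 := commutator_eq_bot_iff_le_centralizer.1 e
  exact (mem_centralizer_iff.1 (h4 hx) (f * y * f⁻¹) ⟨y, hy, rfl⟩).symm

/-- The situation. -/
structure CoreN (D : Dt S P N L W Z C A) (T X : Subgroup G) : Prop where
  hF : Nat.card F = 4
  syl : Syl T X
  BT : bau (S : Subgroup G) ≤ T
  hT : T ≤ (S : Subgroup G)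
  par : IsMinPar T X
  cz : X ≤ centralizer (zc T : Set G)
  TZ : ∀ t ∈ T, ∀ i, cj t (Z i) = Z i
  fx : ∀ i, ∃ z ∈ Z i, z ≠ 1 ∧ ∀ x ∈ X, x * z = z * x

namespace CoreN

variable {D : Dt S P N L W Z C A} {T X : Subgroup G} (c : CoreN D T X) {z₀ f₀ : Fin k → F}
  (m : MD N (bau (S : Subgroup G)) (zj (S : Subgroup G)) W Z z₀ f₀)

include c m

theorem VO : zl (S : Subgroup G) P ≤ o2 X := Swap.V_le_o2 D.line c.syl.2.1 c.BT c.syl.1 c.cz

theorem exists_u (i : Fin k) : ∃ u ∈ Z i, MD.co N z₀ f₀ i u = (1, 0) ∧ ∀ x ∈ X, x * u = u * x := by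
  obtain ⟨u, hu, hue⟩ := m.exists_u i
  refine ⟨u, hu, hue, ?_⟩
  have huW := ((D.mem_Z i u).1 hu).1
  by_cases hs : ∃ t ∈ T, ∃ l : F,
      Act (W i) (MD.co N z₀ f₀ i) t (fun p => (p.1 * p.1 + l * (p.2 * p.2), p.2 * p.2))
  · obtain ⟨t, ht, l, hl⟩ := hs
    obtain ⟨z, hz, hz1, hzX⟩ := c.fx i
    obtain ⟨hzW, hz2⟩ := (m.co_Z (z₀ := z₀) (f₀ := f₀)).1 hz
    have h1 := hl z hzW
    have h2 : t * z * t⁻¹ = z := by rw [hzX t (c.syl.1 ht)]; group
    rw [h2] at h1
    have h3 := congrArg Prod.fst h1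
    simp only [hz2, mul_zero, add_zero] at h3
    have h4 : (MD.co N z₀ f₀ i z).1 ≠ 0 := by
      intro h0
      apply hz1
      refine m.co_inj hzW (one_mem _) ?_
      have h5 := m.co_mul (i := i) (one_mem (zl (S : Subgroup G) P)) (one_mem (zl (S : Subgroup G) P))
      rw [mul_one] at h5
      rw [left_eq_add.1 h5]
      exact Prod.ext h0 hz2
    have h5 : (MD.co N z₀ f₀ i z).1 = 1 := mul_left_cancel₀ h4 (by rw [mul_one]; exact h3.symm)
    have h6 : u = z := m.co_inj huW hzW (by rw [hue]; exact Prod.ext h5.symm hz2.symm)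
    rw [h6]
    exact hzX
  · push Not at hs
    have h1 : ∀ o ∈ T, ∀ z ∈ Z i, o * z = z * o := by
      intro o hoT z hz
      obtain ⟨hzW, hz2⟩ := (m.co_Z (z₀ := z₀) (f₀ := f₀)).1 hz
      obtain ⟨l, hl | hl⟩ := m.act4 c.hF (c.hT hoT) (c.TZ o hoT i)
      · have h3 : o * z * o⁻¹ = z := by
          refine m.co_inj (conjW (m.nW (c.hT hoT) (c.TZ o hoT i)) hzW) hzW ?_
          rw [hl z hzW]
          refine Prod.ext ?_ rfl
          simp [hz2]
        exact mul_inv_eq_iff_eq_mul.1 h3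
      · exact absurd hl (hs o hoT l)
    have h2 : u ∈ zc T := by
      refine mem_zc.2 ⟨c.BT (Swap.zj_le_bau _ (D.line.fr.Z_le i hu)), ?_, fun t ht => h1 t ht u hu⟩
      exact SQ1.Bau.elem_sq D.line.fr.el _ (D.line.fr.ZV i hu)
    exact fun x hx => (mem_centralizer_iff.1 (c.cz hx) u h2).symm

/-- the conjugates of `W i` generate an elementary abelian group -/
theorem ab (i : Fin k) : (∀ x ∈ NoFF.Basic.V (W i) X, ∀ y ∈ NoFF.Basic.V (W i) X, x * y = y * x) ∧
    ∀ x ∈ NoFF.Basic.V (W i) X, x * x = 1 := by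
  have hWV : ∀ w ∈ W i, w ∈ zl (S : Subgroup G) P := fun w hw => m.WV hw
  have key := Swap.elab_iSup (W := fun p : X => cj (p : G) (W i)) (fun f g x hx y hy => ?_) (fun f x hx => ?_)
  · exact key
  · have h1 := comm_of D.line c.syl c.BT (c.VO m) (mul_mem (inv_mem f.2) g.2) (hWV _ (mem_cj.1 hx))
      (hWV _ (mem_cj.1 hy))
    have e1 : (f : G)⁻¹ * g * ((g : G)⁻¹ * y * g) * ((f : G)⁻¹ * g)⁻¹ = (f : G)⁻¹ * y * f := by group
    rw [e1] at h1
    have e2 : (f : G)⁻¹ * x * f * ((f : G)⁻¹ * y * f) = (f : G)⁻¹ * (x * y) * f := by group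
    have e3 : (f : G)⁻¹ * y * f * ((f : G)⁻¹ * x * f) = (f : G)⁻¹ * (y * x) * f := by group
    rw [e2, e3] at h1
    exact mul_left_cancel (mul_right_cancel h1)
  · have h1 := SQ1.Bau.elem_sq D.line.fr.el _ (hWV _ (mem_cj.1 hx))
    have e2 : ((f : G)⁻¹ * x * f) ^ 2 = (f : G)⁻¹ * (x * x) * f := by rw [pow_two]; group
    rw [e2] at h1
    have : x * x = f * ((f : G)⁻¹ * (x * x) * f) * (f : G)⁻¹ := by group
    rw [this, h1]
    group

/-- the structure `One` for the index `i` -/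
theorem one {i : Fin k} {u : G} (hu : u ∈ Z i) (hue : MD.co N z₀ f₀ i u = (1, 0))
    (huX : ∀ x ∈ X, x * u = u * x) : One F X T (W i) (Z i) u (MD.co N z₀ f₀ i) where
  cardK := c.hF
  TU := fun t ht => m.nW (c.hT ht) (c.TZ t ht i)
  Uc := fun v hv w hw => D.line.fr.Vc (m.WV hv) (m.WV hw)
  U2 := fun v hv => by
    rw [← pow_two]
    exact SQ1.Bau.elem_sq D.line.fr.el v (m.WV hv)
  uU := ((D.mem_Z i u).1 hu).1
  eu := hue
  ZU := fun z hz => ((D.mem_Z i z).1 hz).1
  mul := fun v hv w hw => m.co_mul (m.WV hv) (m.WV hw)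
  inj := (m.toCo hu hue).ker
  surj := m.co_surj i
  memZ := fun v hv => by
    rw [(m.toCo hu hue).memZ]
    exact ⟨fun h => h.2, fun h => ⟨hv, h⟩⟩
  act := fun t ht => by
    obtain ⟨l, hl | hl⟩ := m.act4 c.hF (c.hT ht) (c.TZ t ht i)
    · exact ⟨l, Or.inl hl⟩
    · refine ⟨l, Or.inr fun v hv => ?_⟩
      rw [hl v hv]
      simp only [pow_two]
  syl := c.syl
  par := c.par
  UO := fun v hv => c.VO m (m.WV hv)
  comm := (c.ab m i).1
  sq := (c.ab m i).2
  uF := huX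
  full := fun A' hA' => by
    have hAS := AA_two S c.syl.2.1 c.BT hA'
    by_cases hW : A' ≤ centralizer (W i : Set G)
    · exact Or.inl hW
    right
    have hVS : zl (S : Subgroup G) P ≤ (S : Subgroup G) := (Swap.V_le_bau D.line).trans (bau_le _)
    have hWV : W i ≤ zl (S : Subgroup G) P := fun w hw => m.WV hw
    have hoff := FFThm.off_of_AA D.line.fr.el hVS hAS fun h1 => hW (h1.trans (centralizer_le (by exact_mod_cast hWV)))
    obtain ⟨I, hI1, hI2⟩ := N.off A' hAS.2.1 hoff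
    have hup : ∀ (a : G) (b : Fin k → F), ActsSL N.e (zl (S : Subgroup G) P) (cv (S : Subgroup G) P) a (fun i => up (b i)) →
        Lin (MD.co N z₀ f₀ i) (W i) ((z₀ i)⁻¹ * b i * f₀ i) a := by
      intro a b hab v hv
      have h1 := hab.1 v (m.WV hv) i
      have h0 := m.hf i
      refine Prod.ext ?_ ?_
      · rw [MD.co_fst, h1, ap_zero', up_00, up_01]
        show _ = (z₀ i)⁻¹ * N.e v i 0 + (z₀ i)⁻¹ * b i * f₀ i * ((f₀ i)⁻¹ * N.e v i 1)
        field_simp
      · rw [MD.co_snd, h1, ap_one', up_10, up_11, zero_mul, one_mul, zero_add]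
        rfl
    have hiI : i ∈ I := by
      by_contra hi
      apply hW
      intro a ha
      obtain ⟨b, hb, hab⟩ := hI1 a ha
      have h1 := hup a b hab
      rw [hb i hi, mul_zero, zero_mul] at h1
      refine mem_centralizer_iff.2 fun v hv => ?_
      have h2 : a * v * a⁻¹ = v := by
        refine m.co_inj ?_ hv ?_
        · exact conjW (m.nW (hAS.2.1 ha) (c.TZ a (hA'.2.1 ha) i)) hv
        · rw [h1 v hv, zero_mul, add_zero]
      exact (mul_inv_eq_iff_eq_mul.1 h2).symm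
    refine ⟨fun a ha => ?_, fun l => ?_⟩
    · obtain ⟨b, hb, hab⟩ := hI1 a ha
      exact ⟨_, hup a b hab⟩
    · obtain ⟨a, ha, hab⟩ := hI2 (Pi.single i (z₀ i * l * (f₀ i)⁻¹)) fun j hj => by
        rw [Pi.single_eq_of_ne]
        rintro rfl
        exact hj hiI
      refine ⟨a, ha, ?_⟩
      have h1 := hup a _ hab
      rw [Pi.single_eq_same] at h1
      have e1 : (z₀ i)⁻¹ * (z₀ i * l * (f₀ i)⁻¹) * f₀ i = l := by
        have := m.hz i
        have := m.hf i
        field_simp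
      rwa [e1] at h1
  ex := by
    have h1 : A i ∈ AA T := by
      rw [mem_AA_iff]
      refine ⟨D.line.fr.Ael i, (D.line.fr.AB i).trans c.BT, ?_⟩
      rw [mm_two S c.syl.2.1 c.BT, D.line.fr.Am i]
    refine ⟨A i, h1, fun h2 => D.line.fr.Ane i fun a ha v hv => ?_⟩
    exact (mem_centralizer_iff.1 (h2 ha) v hv).symm
  nJ := by
    rintro x ⟨hx, hxJ⟩
    have h1 : x ∈ normalizer (zj (S : Subgroup G) : Set G) := by
      have h2 := LemmaK.Main.jj_eq S c.syl.2.1 c.BT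
      rw [h2] at hxJ
      have h7 := normalizer_le_of_cj (F := zj) zj_cj (jj (S : Subgroup G))
      have h8 : zj (jj (S : Subgroup G)) = zj (S : Subgroup G) :=
        zj_congr (jj_eq_of_jj_le le_rfl (jj_le _))
      rw [h8] at h7
      exact h7 hxJ
    rw [mem_normalizer_iff_cj]
    refine fix_Z D m h1 hu ?_ (huX x hx)
    rintro rfl
    have h2 := m.co_mul (i := i) (one_mem (zl (S : Subgroup G) P)) (one_mem (zl (S : Subgroup G) P))
    rw [mul_one] at h2
    rw [left_eq_add.1 h2] at hue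
    exact zero_ne_one (congrArg Prod.fst hue)

end CoreN

/-- **The claim for one index, stage `-1`.** -/
theorem neg_main {D : Dt S P N L W Z C A} {T X : Subgroup G} (c : CoreN D T X) (i : Fin k) :
    X ≤ normalizer (Z i : Set G) ∨ X ≤ normalizer (W i : Set G) := by
  obtain ⟨z₀, f₀, m⟩ := exists_md D
  obtain ⟨u, hu, hue, huX⟩ := c.exists_u m i
  exact (c.one m hu hue huX).main_of FF.Glob.aStmt c.cz

end Cfsg.Agent.Omega.EK3.Q.ClaimNeg
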