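import Cfsg.Agent.Omega.EK3.Q.TiL
import Cfsg.Agent.Omega.EK3.Q.Loc
import Cfsg.Agent.Omega.OM.SWQ.TiMul
import Cfsg.Agent.Omega.OM.YThm.Plug

/-!
# (E), `k ≥ 2`, `q ≥ 4` (bb #23990, #24025): the split

`T* = S ⊓ ⨅ N_G(W l)`.

* `exists_cj_TS` : a 2-group `T ≥ B` normalising all `Z i` is conjugate under `N_G(B)` into `T*`;
* `tOne_four` : `q = 4`: (T1), or `C_{Z i}(T*) = ⟨z i⟩` has order 2 for all `i` and `C_G(z 1, .., z k)` does not
  normalise all `Z i`;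
* `tOne_neg` : stage `-1`, `q > 4`: (T1), from THEOREM Y;
* **`split`** : `ti`, or the second alternative and `q = 4`; all stages, no hypothesis besides `BlkS` and UNI.
-/

set_option autoImplicit false
set_option linter.unusedSectionVars false

namespace Cfsg.Agent.Omega.EK3.Q

open Subgroup Cfsg Cfsg.Agent.ZN.ChoiceBase
open Cfsg.Agent.ZN (jj zj bau zc zl o2)
open Cfsg.Agent.ZN.ChoiceSit (Syl exists_syl syl_conj)
open Cfsg.Agent.Omega.NO3S.EThree.Frame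
open Cfsg.Agent.Omega.Node.MultiOf
open Cfsg.Agent.Omega.TC.OfMul (BlkS)

universe u

variable {G : Type u} [Group G] [Finite G] {S : Sylow 2 G} {P K B ZJ : Subgroup G} {k : ℕ}
  {L W Z C : Fin k → Subgroup G} {q : ℕ}

/-- `T* = S ⊓ ⨅ N_G(W l)` -/
def TStar (S : Sylow 2 G) (W : Fin k → Subgroup G) : Subgroup G :=
  (S : Subgroup G) ⊓ ⨅ l, normalizer (W l : Set G)

/-- The second alternative of `split`: `C_{Z i}(T*) = ⟨z i⟩` has order 2. -/
def HZ (S : Sylow 2 G) (W Z : Fin k → Subgroup G) (z : Fin k → G) : Prop :=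
  ∀ i, z i ∈ Z i ∧ z i ≠ 1 ∧ ∀ w ∈ Z i,
    (∀ t ∈ (S : Subgroup G) ⊓ ⨅ l, normalizer (W l : Set G), t * w = w * t) ↔ (w = 1 ∨ w = z i)

theorem mem_TStar (h : Bg S P B ZJ L W Z C q) {t : G} :
    t ∈ TStar S W ↔ t ∈ (S : Subgroup G) ∧ ∀ l, t ∈ normalizer (Z l : Set G) := by
  unfold TStar
  rw [mem_inf, mem_iInf]
  constructor
  · rintro ⟨h1, h2⟩
    exact ⟨h1, fun l => ((h.inf_normalizer l).ge ⟨h1, h2 l⟩).2⟩
  · rintro ⟨h1, h2⟩
    exact ⟨h1, fun l => ((h.inf_normalizer l).le ⟨h1, h2 l⟩).2⟩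

theorem B_le_TStar (h : Bg S P B ZJ L W Z C q) : B ≤ TStar S W := fun b hb =>
  (mem_TStar h).2 ⟨h.BS hb, fun l => centralizer_le_normalizer _ (mem_centralizer_iff.2 fun z hz =>
    ((h.fr.blk l).cZ b hb z hz).symm)⟩

/-- a 2-group `T ≥ B` normalising all `Z i` is conjugate under `N_G(B)` into `T*`. -/
theorem exists_cj_TS (h : Bg S P B ZJ L W Z C q) {T : Subgroup G} (hT : IsPGroup 2 T) (hB : B ≤ T)
    (hi : ∀ i, T ≤ normalizer (Z i : Set G)) : ∃ n ∈ normalizer (B : Set G), cj n T ≤ TStar S W := by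
  have hTN : T ≤ normalizer (B : Set G) := h.le_norm_B hT hB
  have hsyl : Syl (S : Subgroup G) (normalizer (B : Set G)) := ZN.CaseTwo.syl_of_sylow S h.S_norm_B
  obtain ⟨T₁, hT₁, hTT₁⟩ := exists_syl hT hTN
  obtain ⟨m, hm, hmS⟩ := syl_conj hT₁ hsyl
  refine ⟨m, hm, fun t ht => (mem_TStar h).2 ⟨?_, fun l => ?_⟩⟩
  · rw [← hmS]
    exact cj_mono m hTT₁ ht
  · obtain ⟨j, hj, -⟩ := (h.nrm m⁻¹ (inv_mem hm)).2 l
    have h1 : Z l = cj m (Z j) := by rw [← hj, cj_cj_inv]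
    rw [h1, ← cj_normalizer]
    exact cj_mono m (hi j) ht

theorem exists_cj_S (h : Bg S P B ZJ L W Z C q) {T : Subgroup G} (hT : IsPGroup 2 T) (hB : B ≤ T) :
    ∃ n ∈ normalizer (B : Set G), cj n T ≤ (S : Subgroup G) := by
  have hTN : T ≤ normalizer (B : Set G) := h.le_norm_B hT hB
  have hsyl : Syl (S : Subgroup G) (normalizer (B : Set G)) := ZN.CaseTwo.syl_of_sylow S h.S_norm_B
  obtain ⟨T₁, hT₁, hTT₁⟩ := exists_syl hT hTN
  obtain ⟨m, hm, hmS⟩ := syl_conj hT₁ hsyl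
  exact ⟨m, hm, by rw [← hmS]; exact cj_mono m hTT₁⟩

theorem cent_zc_le (h : Bg S P B ZJ L W Z C q) {T : Subgroup G} {n : G} (hn : n ∈ normalizer (B : Set G))
    (hc : centralizer (zc (cj n T) : Set G) ≤ normalizer (ZJ : Set G)) :
    centralizer (zc T : Set G) ≤ normalizer (ZJ : Set G) := by
  have hJ : cj n⁻¹ ZJ = ZJ := cj_eq_of_mem_normalizer (inv_mem (h.norm_ZJ hn))
  have h1 := cj_mono n⁻¹ hc
  rw [NO3S.Level.zc_cj, ← cj_centralizer, cj_inv_cj, cj_normalizer, hJ] at h1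
  exact h1

/-- the normaliser of all `Z i` normalises `Z_J` -/
theorem inf_norm_le (h : Bg S P B ZJ L W Z C q) : (⨅ i, normalizer (Z i : Set G)) ≤ normalizer (ZJ : Set G) := by
  have e : ZJ = ⨆ i, Z i := le_antisymm (Loc.ZJ_le_iSup h) (iSup_le h.fr.Z_le)
  intro g hg
  rw [mem_normalizer_iff_cj, e, OM.Swap.cj_iSup]
  exact iSup_congr fun i => mem_normalizer_iff_cj.1 ((mem_iInf.1 hg) i)

/-- **(T1) or the K-shape, `q = 4`, every stage.** -/
theorem tOne_four (h : Bg S P B ZJ L W Z C 4) (lb : OM.LevD.LB S K B ZJ)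
    (blk : ∀ T : Subgroup G, B ≤ T → BlkS K B T) (uni : Uni0 B ZJ Z C) (hk : 0 < k) :
    TOne ZJ Z ∨ ∃ z : Fin k → G, HZ S W Z z ∧
      ∃ i, ¬ (⨅ l, centralizer ({z l} : Set G)) ≤ normalizer (Z i : Set G) := by
  classical
  have hTZ : ∀ t ∈ TStar S W, ∀ l, ∀ v ∈ Z l, t * v * t⁻¹ ∈ Z l := fun t ht l v hv =>
    (mem_normalizer_iff.1 (((mem_TStar h).1 ht).2 l) v).1 hv
  have hT2 : IsPGroup 2 (TStar S W) := S.isPGroup'.to_le inf_le_left
  by_cases hA : TStar S W ≤ centralizer (ZJ : Set G)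
  · -- `T* = B`
    left
    refine tOne_of h lb blk uni hk fun T hT hBT hi => ?_
    obtain ⟨n, hn, hle⟩ := exists_cj_TS h hT hBT hi
    refine cent_zc_le h hn ?_
    have h1 : cj n T ≤ B := by
      rw [h.eqB]
      exact le_inf (hle.trans inf_le_left) (hle.trans hA)
    have h2 : cj n T = B := le_antisymm h1 (by
      have h3 := cj_mono n hBT
      rwa [cj_eq_of_mem_normalizer hn] at h3)
    rw [h2, h.fr.zcB]
    exact centralizer_le_normalizer _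
  -- some `Z i` is moved
  obtain ⟨i₀, hi₀⟩ : ∃ i, ¬ Z i ≤ centralizer (TStar S W : Set G) := by
    by_contra hcon
    push Not at hcon
    apply hA
    rw [le_centralizer_iff]
    exact (Loc.ZJ_le_iSup h).trans (iSup_le hcon)
  have hcard : ∀ i, Nat.card (Z i) = 4 := h.fr.cardZ
  have hF0 : ∀ i, Z i ⊓ centralizer (TStar S W : Set G) ≠ ⊥ := by
    intro i e
    obtain ⟨v, hv, hv1, hvT⟩ := NO3S.EMany.Four.exists_fix hT2 (h.Z_two i) (h.Z_ne i) fun t ht v hv => hTZ t ht i v hv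
    have : v ∈ Z i ⊓ centralizer (TStar S W : Set G) := ⟨hv, mem_centralizer_iff.2 fun t ht => by
      have h2 := hvT t ht
      calc t * v = t * v * t⁻¹ * t := by group
        _ = v * t := by rw [h2]⟩
    rw [e, mem_bot] at this
    exact hv1 this
  -- `|C_{Z i}(T*)| = 2`
  have hcj : ∀ i, ∃ s ∈ (S : Subgroup G), cj s (Z i₀) = Z i ∧ cj s (TStar S W) = TStar S W := by
    intro i
    obtain ⟨s, hs, e⟩ := h.trans i₀ i
    refine ⟨s, hs, (h.cj_Z_iff hs).2 e, ?_⟩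
    refine Subgroup.eq_of_le_of_card_ge ?_ (by rw [card_cj])
    intro t ht
    have ht' : s⁻¹ * t * s ∈ TStar S W := mem_cj.1 ht
    refine (mem_TStar h).2 ⟨?_, fun l => ?_⟩
    · have h1 := mul_mem (mul_mem hs ((mem_TStar h).1 ht').1) (inv_mem hs)
      have e1 : s * (s⁻¹ * t * s) * s⁻¹ = t := by group
      rwa [e1] at h1
    · obtain ⟨j, hj, -⟩ := (h.nrm s⁻¹ (inv_mem (h.S_norm_B hs))).2 l
      have h1 : Z l = cj s (Z j) := by rw [← hj, cj_cj_inv]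
      rw [h1, ← cj_normalizer, mem_cj]
      exact ((mem_TStar h).1 ht').2 j
  have hlt : ∀ i, Nat.card ↥(Z i ⊓ centralizer (TStar S W : Set G) : Subgroup G) = 2 := by
    intro i
    obtain ⟨s, hs, e1, e2⟩ := hcj i
    have h1 : Z i ⊓ centralizer (TStar S W : Set G) = cj s (Z i₀ ⊓ centralizer (TStar S W : Set G)) := by
      rw [cj_inf, cj_centralizer, e1, e2]
    rw [h1, card_cj]
    have h2 : Nat.card ↥(Z i₀ ⊓ centralizer (TStar S W : Set G) : Subgroup G) ∣ 4 := by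
      rw [← hcard i₀]
      exact Subgroup.card_dvd_of_le inf_le_left
    have h3 : Nat.card ↥(Z i₀ ⊓ centralizer (TStar S W : Set G) : Subgroup G) ≠ 4 := by
      intro e
      have h4 : Z i₀ ⊓ centralizer (TStar S W : Set G) = Z i₀ :=
        Subgroup.eq_of_le_of_card_ge inf_le_left (by rw [e, hcard])
      exact hi₀ (inf_eq_left.1 h4)
    have h5 : Nat.card ↥(Z i₀ ⊓ centralizer (TStar S W : Set G) : Subgroup G) ≠ 1 := fun e =>
      hF0 i₀ (Subgroup.card_eq_one.1 e)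
    have h6 := Nat.le_of_dvd (by norm_num) h2
    have h7 : Nat.card ↥(Z i₀ ⊓ centralizer (TStar S W : Set G) : Subgroup G) ≠ 3 := by
      intro e
      rw [e] at h2
      omega
    have h8 : 0 < Nat.card ↥(Z i₀ ⊓ centralizer (TStar S W : Set G) : Subgroup G) := Nat.card_pos
    omega
  have hex : ∀ i, ∃ z, z ∈ Z i ∧ z ≠ 1 ∧ ∀ w ∈ Z i, (∀ t ∈ TStar S W, t * w = w * t) ↔ (w = 1 ∨ w = z) := by
    intro i
    obtain ⟨z, hz, hz1⟩ : ∃ z ∈ Z i ⊓ centralizer (TStar S W : Set G), z ≠ 1 := by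
      by_contra hcon
      push Not at hcon
      exact hF0 i ((eq_bot_iff_forall _).2 hcon)
    refine ⟨z, hz.1, hz1, fun w hw => ⟨fun hwT => ?_, ?_⟩⟩
    · by_cases hw1 : w = 1
      · exact Or.inl hw1
      · exact Or.inr (OM.UniPlus.eq_of_card_two (hlt i) ⟨hw, mem_centralizer_iff.2 hwT⟩ hz hw1 hz1)
    · rintro (rfl | rfl) t ht
      · rw [mul_one, one_mul]
      · exact mem_centralizer_iff.1 hz.2 t ht
  choose z hz hz1 hzT using hex
  by_cases hD : ∀ i, (⨅ l, centralizer ({z l} : Set G)) ≤ normalizer (Z i : Set G)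
  · left
    refine tOne_of h lb blk uni hk fun T hT hBT hi => ?_
    obtain ⟨n, hn, hle⟩ := exists_cj_TS h hT hBT hi
    refine cent_zc_le h hn (le_trans ?_ ((le_iInf hD).trans (inf_norm_le h)))
    refine le_iInf fun l => centralizer_le ?_
    rw [Set.singleton_subset_iff]
    refine mem_zc.2 ⟨?_, h.fr.Vsq (h.fr.ZV l (hz l)), fun t ht => (hzT l (z l) (hz l)).2 (Or.inr rfl) t (hle ht)⟩
    have h3 := cj_mono n hBT
    rw [cj_eq_of_mem_normalizer hn] at h3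
    exact h3 ((h.fr.blk l).VB ((h.fr.blk l).ZV (hz l)))
  · right
    push Not at hD
    exact ⟨z, fun i => ⟨hz i, hz1 i, hzT i⟩, hD⟩

/-- **(T1) at stage `-1`, `q > 4`**, from THEOREM Y. -/
theorem tOne_neg (h : Mul S P K B ZJ L W Z C q) (hk : 2 ≤ k) (hq : 4 < q) (hJ : ¬ jj (S : Subgroup G) ≤ o2 P)
    (blk : ∀ T : Subgroup G, B ≤ T → BlkS K B T) (uni : Uni0 B ZJ Z C) : TOne ZJ Z := by
  refine tOne_of h.bg h.lb blk uni (by omega) fun T hT hBT _ => ?_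
  obtain ⟨n, hn, hle⟩ := exists_cj_S h.bg hT hBT
  refine cent_zc_le h.bg hn ?_
  have hZJ : ZJ = zj (S : Subgroup G) := by
    cases h.stg with
    | neg _ => rfl
    | lev m _ hm _ => exact absurd ((NO3S.Level.lev_mono (S : Subgroup G) (Nat.zero_le m)).trans hm) hJ
  have h1 : FrameNOFF.CZ (S : Subgroup G) ≤ normalizer (ZJ : Set G) := by
    obtain ⟨F, _, _, _, hF, ⟨N⟩⟩ := h.nat
    rcases OM.YThm.Plug.thmY ⟨h.hyp.toHypN, hJ⟩ FF.Glob.ffthm hk (by omega) N.toNatK with h2 | h2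
    · rw [hZJ]; exact h2
    · exact absurd h2.1 (by omega)
  refine le_trans (centralizer_le ?_) h1
  intro z hz
  obtain ⟨h2, h3, h4⟩ := mem_zc.1 hz
  refine mem_zc.2 ⟨?_, h3, fun t ht => h4 t (hle ht)⟩
  have h5 : z ∈ B := h.bg.mem_B h2 fun w hw => (h4 w (h.bg.BS (h.lb.ZB hw))).symm
  have h6 := cj_mono n hBT
  rw [cj_eq_of_mem_normalizer hn] at h6
  exact h6 h5

/-- **(T1) or the K-shape.** -/
theorem tOne_or (h : Mul S P K B ZJ L W Z C q) (hk : 2 ≤ k) (hq : 4 ≤ q)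
    (blk : ∀ T : Subgroup G, B ≤ T → BlkS K B T) (uni : Uni0 B ZJ Z C) :
    TOne ZJ Z ∨ (q = 4 ∧ ∃ z : Fin k → G, HZ S W Z z ∧
      ∃ i, ¬ (⨅ l, centralizer ({z l} : Set G)) ≤ normalizer (Z i : Set G)) := by
  rcases hq.lt_or_eq with h4 | rfl
  · left
    by_cases hJ : jj (S : Subgroup G) ≤ o2 P
    · exact fun Y hY hm => h.tiAll_lev hk hJ (by omega) hY hm
    · exact tOne_neg h hk h4 hJ blk uni
  · rcases tOne_four h.bg h.lb blk uni (by omega) with h1 | h1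
    · exact Or.inl h1
    · exact Or.inr ⟨rfl, h1⟩

/-- **The split of (E), `k ≥ 2`, `q ≥ 4`, every stage.** -/
theorem split (h : Mul S P K B ZJ L W Z C q) (hk : 2 ≤ k) (hq : 4 ≤ q)
    (blk : ∀ T : Subgroup G, B ≤ T → BlkS K B T)
    (uni : ∀ L' V' : Subgroup G, FBl B L' V' → ∃ i, V' = W i ∧ ∀ z ∈ ZJ, z ∈ C i → ∀ l ∈ L', l * z = z * l) :
    (∀ i j, i ≠ j → ∀ z ∈ Z i, z ≠ 1 → centralizer ({z} : Set G) ⊓ CQ Z i j ≤ normalizer (Z i : Set G)) ∨
      (q = 4 ∧ ∃ z : Fin k → G,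
        (∀ i, z i ∈ Z i ∧ z i ≠ 1 ∧ ∀ w ∈ Z i,
          (∀ t ∈ (S : Subgroup G) ⊓ ⨅ l, normalizer (W l : Set G), t * w = w * t) ↔ (w = 1 ∨ w = z i)) ∧
        ∃ i, ¬ (⨅ l, centralizer ({z l} : Set G)) ≤ normalizer (Z i : Set G)) := by
  have hu := uni0_of h.bg uni
  rcases tOne_or h hk hq blk hu with h1 | h1
  · exact Or.inl (ti_of h blk hu h1)
  · exact Or.inr h1

end Cfsg.Agent.Omega.EK3.Q
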