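import Cfsg.Agent.Omega.EK3.Q.Def
import Cfsg.Agent.Omega.EK3.BlkUniQ
import Cfsg.Agent.Omega.EK3.OfMul
import Cfsg.Agent.Omega.NO3S.EThree.NonLocQ
import Cfsg.Agent.Omega.OM.SWQ.Dt
import Cfsg.Agent.Omega.OM.Lev.Low.LowMain

/-!
# NO-3S, MultiQL, case (E), `q ≥ 4`: UNI+ and block generation over `Mul`, every stage, no hypothesis

* `UniB` : UNI+ in the form of `FrQ.uni`;  `UniB.of_bg` : independent of the frame over `(B, ZJ)`;
* **`uni_mul`** : `Mul .. q`, `2 ≤ k`, `2 < q` give `UniB B ZJ W C`;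
* **`blk_mul`** : `Mul .. q`, `2 ≤ k`, `2 < q` give `BlkS K B T` for EVERY `T ≥ B`.
-/

set_option autoImplicit false
set_option linter.unusedSectionVars false

namespace Cfsg.Agent.Omega.EK3.Q.OfMul

open Subgroup Cfsg Cfsg.Agent.ZN.ChoiceBase
open Cfsg.Agent.ZN (jj zj bau zc zl o2)
open Cfsg.Agent.ZN.ChoiceSit (Syl)
open Cfsg.Agent.Omega.OM Cfsg.Agent.Omega.OM.Uni
open Cfsg.Agent.Omega.NO3S (HypJ HypN Hyp HypL)
open Cfsg.Agent.Omega.NO3S.Level (lev)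
open Cfsg.Agent.Omega.NO3S.EThree.Frame (Bg Bs)
open Cfsg.Agent.MinSimple.MinParabolic (IsMinPar)
open Cfsg.Agent.Omega.Node.MultiOf
open Cfsg.Agent.Omega.TC.OfMul (BlkS)
open Cfsg.Agent.Omega.OM.SwapL (Ln BL ZL)
open scoped Pointwise

universe u

variable {G : Type u} [Group G]

/-- UNI+ in the form of `FrQ.uni`. -/
def UniB {k : ℕ} (B ZJ : Subgroup G) (W C : Fin k → Subgroup G) : Prop :=
  ∀ L' V' : Subgroup G, FBl B L' V' → ∃ i, V' = W i ∧ ∀ z ∈ ZJ, z ∈ C i → ∀ l ∈ L', l * z = z * l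

variable [Finite G] {S : Sylow 2 G} {P K B ZJ : Subgroup G} {k : ℕ} {L W Z C : Fin k → Subgroup G} {q : ℕ}

/-- `UniB` from `UniP` (no (TI)) -/
theorem uni_of (h : Bg S P B ZJ L W Z C q) (hq : 2 < q)
    (hu : ∀ L' V' : Subgroup G, FBl B L' V' → ∃ i, UniPlus.NB B L' V' (Z i) q ∧ V' ≤ W i ⊔ ZJ ∧
      ∀ z ∈ ZJ, z ∈ C i → ∀ l ∈ L', l * z = z * l) : UniB B ZJ W C := by
  intro L' V' hb
  obtain ⟨i, hN, hV, hcen⟩ := hu L' V' hb
  exact ⟨i, NO3S.EMany.FourDQ.V_eq h hq hN hV hcen, hcen⟩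

/-- `UniB` does not depend on the frame over `(B, ZJ)`. -/
theorem UniB.of_bg {P₁ : Subgroup G} {L₁ W₁ Z₁ C₁ : Fin k → Subgroup G} {q₁ : ℕ} (hu : UniB B ZJ W₁ C₁)
    (h₁ : Bg S P₁ B ZJ L₁ W₁ Z₁ C₁ q₁) (h : Bg S P B ZJ L W Z C q) : UniB B ZJ W C := by
  -- the frames have the same `W`
  have h1 : ∀ i, ∃ j, W i = W₁ j ∧ ∀ z ∈ ZJ, z ∈ C₁ j → z ∈ C i := by
    intro i
    obtain ⟨j, hj, hc⟩ := hu (L i) (W i) ⟨⟨_, _, h.fr.blk i⟩, h.block i⟩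
    exact ⟨j, hj, fun z hz hzC => (NO3S.EThree.NonLocQ.mem_C_iff h hz).2 fun l hl => hc z hz hzC l hl⟩
  choose σ hσ using h1
  have hinj : Function.Injective σ := fun a b e => by
    by_contra hab
    have h2 : W a = W b := by rw [(hσ a).1, (hσ b).1, e]
    have h3 : W a ≤ C b := h.fr.WjC b a (Ne.symm hab)
    have h4 : W b ≤ W b ⊓ C b := le_inf le_rfl (h2 ▸ h3)
    rw [h.fr.dir b] at h4
    exact h.Z_ne b (le_bot_iff.1 ((h.fr.blk b).ZV.trans h4))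
  have hsur : Function.Surjective σ := Finite.surjective_of_injective hinj
  -- `C i ∩ ZJ = C₁ (σ i) ∩ ZJ`
  have hC : ∀ i, ∀ z ∈ ZJ, z ∈ C i → z ∈ C₁ (σ i) := by
    intro i z hz hzC
    obtain ⟨w, hw, c, hc, hcJ, e⟩ := h₁.fr.split_ZJ (σ i) hz
    have hw' : w ∈ W i := by
      rw [(hσ i).1]
      exact (h₁.fr.blk (σ i)).ZV hw
    have hc' : c ∈ C i := (hσ i).2 c hcJ hc
    have h2 : w ∈ W i ⊓ C i := by
      refine mem_inf.2 ⟨hw', ?_⟩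
      have h3 : w = z * c⁻¹ := by rw [e]; group
      rw [h3]
      exact mul_mem hzC (inv_mem hc')
    rw [h.fr.dir i, mem_bot] at h2
    rw [e, h2, one_mul]
    exact hc
  intro L' V' hb
  obtain ⟨j, hj, hcen⟩ := hu L' V' hb
  obtain ⟨i, rfl⟩ := hsur j
  exact ⟨i, hj.trans (hσ i).1.symm, fun z hz hzC => hcen z hz (hC i z hz hzC)⟩

/-- **UNI+ over `Mul`**, every stage. -/
theorem uni_mul (h : Mul S P K B ZJ L W Z C q) (hk : 2 ≤ k) (hq : 2 < q) : UniB B ZJ W C := by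
  obtain ⟨F, _, _, _, rfl, ⟨N⟩⟩ := h.nat
  cases h.stg with
  | neg hj =>
    obtain ⟨L₁, Z₁, A₁, hB, hZ, -, -⟩ := NO3S.EThree.Frame.exists_bs ⟨h.hyp.toHypN, hj⟩ hk N.toNatK
    have hbg := Bg.of_bs hB fun _ i => NO3S.EThree.Frame.scal ⟨h.hyp.toHypN, hj⟩ (by omega) N.toNatK hZ i
    refine UniB.of_bg (uni_of hbg hq ?_) hbg h.bg
    rintro L' V' ⟨⟨Z', q', hF⟩, -⟩
    obtain ⟨i, rfl, hN, hV, hc⟩ := uniP_neg hB hq L' V' Z' q' hF
    exact ⟨i, hN, hV, hc⟩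
  | lev n hall hn hn1 =>
    obtain ⟨M, L₁, Z₁, A₁, -, hfr, hbg, -⟩ := Lev.Main.bg_lev h.hyp.toHypN hn hn1 hk N rfl
    refine UniB.of_bg (uni_of hbg hq ?_) hbg h.bg
    intro L' V' hb
    obtain ⟨Z', hF, i, rfl, hN, hV, hc, -⟩ := TC.UniLev.uni_all S rfl rfl hfr hb
    exact ⟨i, hN, hV, fun z hz hzC => (hc z hz).1 hzC⟩

/-- stage `-1`: block generation over every `T ≥ B` -/
theorem blk_neg (S : Sylow 2 G) {T : Subgroup G} (hBT : bau (S : Subgroup G) ≤ T) :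
    BlkS (jj (S : Subgroup G)) (bau (S : Subgroup G)) T := by
  intro R hR hT hc hK hZ
  have hjj : jj T = jj (S : Subgroup G) := LemmaK.Main.jj_eq S hT.2.1 hBT
  obtain ⟨L', V', hb, h1, h2⟩ := TC.UniOne.blkGenS FF.Glob.ffthm S hT hBT hR hc (by rw [hjj]; exact hK) hZ
  exact ⟨L', V', ⟨hb.fb, hb.blk⟩, h1, h2⟩

/-- stage `n`: block generation over every `T ≥ B` -/
theorem blk_lev {n : ℕ} {A : Fin k → Subgroup G} (h : Ln S P n L W Z C A q) (hq : 2 < q) {T : Subgroup G}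
    (hBT : BL (S : Subgroup G) n ≤ T) : BlkS (lev (S : Subgroup G) (n + 1)) (BL (S : Subgroup G) n) T := by
  intro R hR hT hc hK hZ
  have hlow := Lev.Low.low_four h hq hT hBT hR hc hZ
  obtain ⟨L', V', h1, ⟨h2, h3⟩, h4⟩ := LevB.exists_fblk S hT hBT hR hc hlow hK hZ
  exact ⟨L', V', ⟨h2, h3⟩, h1, h4.trans (sup_comm _ _).le⟩

/-- **Block generation over `Mul`**, every stage, every `T ≥ B`. -/
theorem blk_mul (h : Mul S P K B ZJ L W Z C q) (hk : 2 ≤ k) (hq : 2 < q) {T : Subgroup G} (hT : B ≤ T) :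
    BlkS K B T := by
  obtain ⟨F, _, _, _, rfl, ⟨N⟩⟩ := h.nat
  cases h.stg with
  | neg hj => exact blk_neg S hT
  | lev n hall hn hn1 =>
    obtain ⟨M, L₁, Z₁, A₁, -, hfr, hbg, -⟩ := Lev.Main.bg_lev h.hyp.toHypN hn hn1 hk N rfl
    exact blk_lev ⟨h.hyp.toHypN, hn, hfr, hbg.two⟩ hq hT

end Cfsg.Agent.Omega.EK3.Q.OfMul
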