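import Cfsg.Agent.Omega.EK3.Q.StarI
import Cfsg.Agent.Omega.EK3.Q.Par

/-!
# (E), `k ≥ 3`, `q ≥ 4` (bb #22703, #23990): the frame `FrQ` is a frame of STAR (`StarE.Fr`)

`LI Z L B i = ⟨L i, N_{Y_i}(B)⟩` normalises `W i`, centralises `Z l` (`l ≠ i`).

* `starFr` : `StarE.Fr` for `O = O₂(D)`, `D = C_G(ZJ)`, `Y_j`, `N_j`, `LI`, from (NO) and `KZ` nonlocal;
* `LI_cent_Z`, `LI_norm_W`, `LI_norm_CW`, `O_ne` : the side conditions of `exists_out`;
* `exists_outQ` : the output of STAR.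
-/

set_option autoImplicit false
set_option linter.unusedSectionVars false

namespace Cfsg.Agent.Omega.EK3.Q

open Subgroup Cfsg Cfsg.Agent.ZN.ChoiceBase
open Cfsg.Agent.ZN (zc zl o2)
open Cfsg.Agent.Omega.NO3S.EThree.Frame
open Cfsg.Agent.Omega.Node.MultiOf
open Cfsg.Agent.Omega.NoFF.Basic (V)
open Cfsg.Agent.Omega.EK3.StarE (EE EE_le EE_mono le_EE cj_le_EE norm_EE)
open Cfsg.Agent.Omega.EK3.Rank (NoOn)
open scoped Pointwise

universe u

variable {G : Type u} [Group G] {k : ℕ}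

/-- `⟨L i, N_{Y_i}(B)⟩` -/
def LI (Z L : Fin k → Subgroup G) (B : Subgroup G) (i : Fin k) : Subgroup G := L i ⊔ (YQ Z i ⊓ normalizer (B : Set G))

namespace FrQ

variable [Finite G] {S : Sylow 2 G} {P K B ZJ : Subgroup G} {L W Z C : Fin k → Subgroup G} {q : ℕ}
  (h : FrQ S P K B ZJ L W Z C q)
include h

theorem LI_le (i : Fin k) : LI Z L B i ≤ YQ Z i := sup_le (h.L_le i) inf_le_left

theorem LI_cent_Z {i j : Fin k} (hij : i ≠ j) : LI Z L B i ≤ centralizer (Z j : Set G) :=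
  (h.LI_le i).trans (YQ_cent hij.symm)

theorem L_norm_W (i : Fin k) : L i ≤ normalizer (W i : Set G) := by
  intro l hl
  have key : ∀ y ∈ L i, cj y (W i) ≤ W i := by
    rintro y hy _ ⟨w, hw, rfl⟩
    exact (h.mul.bg.fr.blk i).nV y hy w hw
  rw [mem_normalizer_iff_cj]
  refine le_antisymm (key l hl) ?_
  have h1 := cj_mono l (key l⁻¹ (inv_mem hl))
  rwa [cj_cj_inv] at h1

theorem LI_norm_W (i : Fin k) : LI Z L B i ≤ normalizer (W i : Set G) :=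
  sup_le (h.L_norm_W i) fun _ hx => mem_normalizer_iff_cj.2 (h.fixB hx.2 hx.1 i).1

/-- `Y_j ∩ C(W i) = C_ij ∩ C(W i)` for `i ≠ j` -/
theorem Y_inf_cent {i j : Fin k} (hij : i ≠ j) :
    YQ Z j ⊓ centralizer (W i : Set G) = CQ Z i j ⊓ centralizer (W i : Set G) := by
  apply le_antisymm
  · exact inf_le_inf_right _ (YQ_le_right Z i j)
  · rintro x ⟨hx, hxW⟩
    refine ⟨mem_YQ.2 fun l hl z hz => ?_, hxW⟩
    by_cases hli : l = i
    · subst hli
      exact (mem_centralizer_iff.1 hxW z ((h.mul.bg.fr.blk l).ZV hz)).symm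
    · exact mem_CQ.1 hx l hli hl z hz

theorem LI_le_CQ (i j : Fin k) : LI Z L B i ≤ CQ Z i j := (h.LI_le i).trans (YQ_le_left Z i j)

/-- `⟨L i, N_{Y_i}(B)⟩` normalises `C_{Y_j}(W i)` -/
theorem LI_norm_CW {i j : Fin k} (hij : i ≠ j) :
    LI Z L B i ≤ normalizer ((YQ Z j ⊓ centralizer (W i : Set G) : Subgroup G) : Set G) := by
  rw [h.Y_inf_cent hij]
  intro x hx
  rw [mem_normalizer_iff_cj, cj_inf, cj_centralizer, cj_eq_of_mem_normalizer (h.LI_norm_W i hx),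
    cj_eq_of_mem_normalizer (Subgroup.le_normalizer (h.LI_le_CQ i j hx))]

theorem EQ_eab (i j : Fin k) : IsElementaryAbelian 2 (EQ Z ZJ i j) :=
  NO3S.EThree.ExactA.eab_iff.2 ⟨h.EQ_ab i j, fun _ hx => h.EQ_sq hx⟩

theorem EE_eab (i j : Fin k) : IsElementaryAbelian 2 (EE ZJ (YQ Z i ⊔ YQ Z j)) :=
  NO3S.EThree.ExactA.eab_mono (h.EQ_eab i j) (EE_le_EQ ZJ Z i j)

theorem NQ_eab (j : Fin k) : IsElementaryAbelian 2 (NQ Z j) :=
  NO3S.EThree.ExactA.eab_mono (h.EQ_eab j j) (h.NQ_le_EQ_left j j)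

/-- `N_i` centralises `N_j` -/
theorem NQ_cent_NQ (i j : Fin k) : NQ Z i ≤ centralizer (NQ Z j : Set G) := fun _ hx =>
  mem_centralizer_iff.2 fun _ hy => h.EQ_comm (h.NQ_le_EQ_right i j hy) (h.NQ_le_EQ_left i j hx)

theorem O_ne : o2 (centralizer (ZJ : Set G)) ≠ ⊥ := by
  have : Nonempty (Fin k) := ⟨⟨0, lt_of_lt_of_le (by norm_num) h.three⟩⟩
  obtain ⟨i⟩ := this
  intro e
  apply h.mul.bg.Z_ne i
  rw [eq_bot_iff, ← e]
  exact (h.Z_le_NQ i).trans (h.NQ_le_O i)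

/-- **The frame of STAR.** -/
theorem starFr (hN : NLoc (KZ B ZJ))
    (hno : ∀ j, NoOn (o2 (centralizer (ZJ : Set G))) (NQ Z j)) :
    StarE.Fr (o2 (centralizer (ZJ : Set G))) (centralizer (ZJ : Set G)) ZJ (YQ Z) (NQ Z) (LI Z L B) := by
  have hgen' : ∀ j, YQ Z j ≤ centralizer (ZJ : Set G) ⊔ LI Z L B j := fun j => (h.gen j).trans (by
    unfold LI
    rw [sup_assoc])
  exact
  { OD := ZN.ChoiceSit.o2_le _
    DO := ZN.ChoiceSit.le_normalizer_o2 _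
    OZ := ZN.ChoiceSit.o2_le _
    DY := h.D_le
    LY := h.LI_le
    YDL := hgen'
    eab := h.NQ_eab
    NQ := fun i j => le_inf (h.NQ_le_O i) (h.NQ_cent_NQ i j)
    YN := fun i => YQ_norm_NQ Z i
    YQ := fun i => by
      rw [← h.Q_eq i]
      exact ZN.ChoiceSit.le_normalizer_o2 _
    no := hno
    nl := fun U hU hD hL => h.nonloc hN ((ZN.ChoiceSit.isPGroup_o2 _).to_le hU) fun j =>
      (hgen' j).trans (sup_le hD (hL j))
    Eeab := fun i j _ => h.EE_eab i j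
    EO := fun i j _ => h.EE_le_O i j
    NE := fun i => Loc.V_mono (h.mul.bg.fr.Z_le i) le_rfl }

/-- **STAR over `FrQ`.** -/
theorem exists_outQ (hN : NLoc (KZ B ZJ)) (hno : ∀ j, NoOn (o2 (centralizer (ZJ : Set G))) (NQ Z j)) :
    ∃ i j F, OutQ ZJ W Z i j F :=
  h.exists_out (h.starFr hN hno) h.O_ne (fun _ _ hij => h.LI_norm_CW hij) fun _ _ hij => h.LI_cent_Z hij

end FrQ

end Cfsg.Agent.Omega.EK3.Q
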