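import Cfsg.Agent.Omega.EK3.Q.Loc
import Cfsg.Agent.Omega.EK3.Q.Def

/-!
# (E), `k ≥ 3`, `q ≥ 4` (bb #22703 (0'), #23165 (C)): the local groups `C_ij` over the frame `FrQ`

`E_ij = EQ Z ZJ i j = ⟨ZJ^{C_ij}⟩`, `WQ Z W i j = ⟨W_i^{Y_j}⟩`.
-/

set_option autoImplicit false
set_option linter.unusedSectionVars false

namespace Cfsg.Agent.Omega.EK3.Q

open Subgroup Cfsg Cfsg.Agent.ZN.ChoiceBase
open Cfsg.Agent.ZN (zc zl o2)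
open Cfsg.Agent.Omega.NO3S.EThree.Frame
open Cfsg.Agent.Omega.Node.MultiOf
open Cfsg.Agent.Omega.NoFF.Basic (V)

universe u

variable {G : Type u} [Group G] {k : ℕ}

/-- `E_ij = ⟨ZJ ^ C_ij⟩` -/
def EQ (Z : Fin k → Subgroup G) (ZJ : Subgroup G) (i j : Fin k) : Subgroup G := V ZJ (CQ Z i j)

/-- `W_ij = ⟨W_i ^ Y_j⟩` -/
def WQ (Z W : Fin k → Subgroup G) (i j : Fin k) : Subgroup G := V (W i) (YQ Z j)

theorem YQ_norm_NQ (Z : Fin k → Subgroup G) (j : Fin k) : YQ Z j ≤ normalizer (NQ Z j : Set G) :=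
  Loc.le_normalizer_V _ _

theorem YQ_norm_WQ (Z W : Fin k → Subgroup G) (i j : Fin k) : YQ Z j ≤ normalizer (WQ Z W i j : Set G) :=
  Loc.le_normalizer_V _ _

theorem CQ_norm_EQ (Z : Fin k → Subgroup G) (ZJ : Subgroup G) (i j : Fin k) :
    CQ Z i j ≤ normalizer (EQ Z ZJ i j : Set G) := Loc.le_normalizer_V _ _

theorem Z_le_NQ (Z : Fin k → Subgroup G) (j : Fin k) : Z j ≤ NQ Z j := Loc.le_V _ _

theorem W_le_WQ (Z W : Fin k → Subgroup G) (i j : Fin k) : W i ≤ WQ Z W i j := Loc.le_V _ _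

theorem ZJ_le_EQ (Z : Fin k → Subgroup G) (ZJ : Subgroup G) (i j : Fin k) : ZJ ≤ EQ Z ZJ i j := Loc.le_V _ _

namespace FrQ

variable [Finite G] {S : Sylow 2 G} {P K B ZJ : Subgroup G} {L W Z C : Fin k → Subgroup G} {q : ℕ}
  (h : FrQ S P K B ZJ L W Z C q)
include h

/-- a third index -/
theorem third (i j : Fin k) : ∃ l, l ≠ i ∧ l ≠ j := by
  by_contra hcon
  push Not at hcon
  have h1 : ∀ l : Fin k, l = i ∨ l = j := fun l => by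
    by_cases hl : l = i
    · exact Or.inl hl
    · exact Or.inr (hcon l hl)
  have h2 : (Finset.univ : Finset (Fin k)) ⊆ {i, j} := fun l _ => by
    rcases h1 l with rfl | rfl <;> simp
  have h3 := Finset.card_le_card h2
  rw [Finset.card_univ, Fintype.card_fin] at h3
  have h4 : ({i, j} : Finset (Fin k)).card ≤ 2 := Finset.card_le_two
  exact absurd h.three (by omega)

/-- **`C_ij` has characteristic 2** -/
theorem char2_CQ (i j : Fin k) : CQ Z i j ⊓ centralizer (o2 (CQ Z i j) : Set G) ≤ o2 (CQ Z i j) := by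
  obtain ⟨l, hi, hj⟩ := h.third i j
  exact Loc.char2_CI h.mul.bg hi hj

theorem o2CQ_cent_left (i j : Fin k) : o2 (CQ Z i j) ≤ centralizer (W i : Set G) :=
  Loc.o2CI_cent_left h.mul.bg i j

theorem o2CQ_cent_right (i j : Fin k) : o2 (CQ Z i j) ≤ centralizer (W j : Set G) :=
  Loc.o2CI_cent_right h.mul.bg i j

/-- `O₂(C_ij) ≤ D` -/
theorem o2CQ_le_D (i j : Fin k) : o2 (CQ Z i j) ≤ centralizer (ZJ : Set G) := Loc.o2CI_le_D h.mul.bg i j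

/-- **`O₂(C_ij) ≤ B`** -/
theorem o2CQ_le_B (i j : Fin k) : o2 (CQ Z i j) ≤ B := Loc.o2CI_le_B h.mul.bg i j

/-- `O₂(C_ij) ≤ O₂(D)` -/
theorem o2CQ_le_O (i j : Fin k) : o2 (CQ Z i j) ≤ o2 (centralizer (ZJ : Set G)) := Loc.o2CI_le_O h.mul.bg i j

/-- `O₂(C_ij) ≤ O₂(Y_i)` -/
theorem o2CQ_le_left (i j : Fin k) : o2 (CQ Z i j) ≤ o2 (YQ Z i) := Loc.o2CI_le_left h.mul.bg i j

/-- `O₂(C_ij) ≤ O₂(Y_j)` -/
theorem o2CQ_le_right (i j : Fin k) : o2 (CQ Z i j) ≤ o2 (YQ Z j) := Loc.o2CI_le_right h.mul.bg i j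

theorem ZJ_le_zcCQ (i j : Fin k) : ZJ ≤ zc (o2 (CQ Z i j)) := by
  obtain ⟨l, hi, hj⟩ := h.third i j
  exact Loc.ZJ_le_zc h.mul.bg hi hj

/-- **`E_ij ≤ Ω₁Z(O₂(C_ij))`** -/
theorem EQ_le_zc (i j : Fin k) : EQ Z ZJ i j ≤ zc (o2 (CQ Z i j)) := by
  obtain ⟨l, hi, hj⟩ := h.third i j
  exact Loc.EI_le h.mul.bg hi hj

theorem EQ_le_o2 (i j : Fin k) : EQ Z ZJ i j ≤ o2 (CQ Z i j) := (h.EQ_le_zc i j).trans (ZN.ChoiceSit.zc_le _)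

theorem EQ_comm {i j : Fin k} {x y : G} (hx : x ∈ EQ Z ZJ i j) (hy : y ∈ EQ Z ZJ i j) : x * y = y * x :=
  (mem_zc.1 (h.EQ_le_zc i j hy)).2.2 x (h.EQ_le_o2 i j hx)

theorem EQ_sq {i j : Fin k} {x : G} (hx : x ∈ EQ Z ZJ i j) : x ^ 2 = 1 := (mem_zc.1 (h.EQ_le_zc i j hx)).2.1

theorem EQ_ab (i j : Fin k) : EQ Z ZJ i j ≤ centralizer (EQ Z ZJ i j : Set G) := fun _ hx =>
  mem_centralizer_iff.2 fun _ hy => h.EQ_comm hy hx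

theorem EQ_le_B (i j : Fin k) : EQ Z ZJ i j ≤ B := (h.EQ_le_o2 i j).trans (h.o2CQ_le_B i j)

theorem EQ_le_D (i j : Fin k) : EQ Z ZJ i j ≤ centralizer (ZJ : Set G) := (h.EQ_le_o2 i j).trans (h.o2CQ_le_D i j)

theorem EQ_le_O (i j : Fin k) : EQ Z ZJ i j ≤ o2 (centralizer (ZJ : Set G)) :=
  (h.EQ_le_o2 i j).trans (h.o2CQ_le_O i j)

theorem EQ_le_left (i j : Fin k) : EQ Z ZJ i j ≤ o2 (YQ Z i) := (h.EQ_le_o2 i j).trans (h.o2CQ_le_left i j)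

theorem EQ_le_right (i j : Fin k) : EQ Z ZJ i j ≤ o2 (YQ Z j) := (h.EQ_le_o2 i j).trans (h.o2CQ_le_right i j)

theorem EQ_cent_left (i j : Fin k) : EQ Z ZJ i j ≤ centralizer (W i : Set G) :=
  (h.EQ_le_o2 i j).trans (h.o2CQ_cent_left i j)

theorem EQ_cent_right (i j : Fin k) : EQ Z ZJ i j ≤ centralizer (W j : Set G) :=
  (h.EQ_le_o2 i j).trans (h.o2CQ_cent_right i j)

theorem NQ_le_EQ_left (i j : Fin k) : NQ Z i ≤ EQ Z ZJ i j := Loc.N_le_EI_left h.mul.bg i j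

theorem NQ_le_EQ_right (i j : Fin k) : NQ Z j ≤ EQ Z ZJ i j := Loc.N_le_EI_right h.mul.bg i j

theorem W_le_EQ_left (i j : Fin k) : W i ≤ EQ Z ZJ i j := Loc.W_le_EI_left h.mul.bg i j

theorem W_le_EQ_right (i j : Fin k) : W j ≤ EQ Z ZJ i j := Loc.W_le_EI_right h.mul.bg i j

/-- `W_ij ≤ E_ij` -/
theorem WQ_le_EQ (i j : Fin k) : WQ Z W i j ≤ EQ Z ZJ i j := Loc.WW_le_EI h.mul.bg i j

/-- `W_ji ≤ E_ij` -/
theorem WQ_le_EQ' (i j : Fin k) : WQ Z W j i ≤ EQ Z ZJ i j := Loc.WW_le_EI' h.mul.bg i j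

/-- **`N_j ≤ O₂(P)`** -/
theorem NQ_le_o2P (j : Fin k) : NQ Z j ≤ o2 P := Loc.N_le_Q h.mul.bg h.third j

/-- `O₂(Y_j)` centralises `W j` -/
theorem o2Y_cent (j : Fin k) : o2 (YQ Z j) ≤ centralizer (W j : Set G) := Loc.o2Y_cent h.mul.bg j

theorem o2Y_le_D (j : Fin k) : o2 (YQ Z j) ≤ centralizer (ZJ : Set G) := Loc.o2Y_le_D h.mul.bg j

/-- **`O₂(Y_j) ≤ B`** -/
theorem o2Y_le_B (j : Fin k) : o2 (YQ Z j) ≤ B := Loc.o2Y_le_B h.mul.bg j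

/-- `O₂(Y_j) ≤ O₂(D)` -/
theorem o2Y_le_O (j : Fin k) : o2 (YQ Z j) ≤ o2 (centralizer (ZJ : Set G)) := Loc.o2Y_le_O h.mul.bg j

/-- **`[W_ij, O₂(Y_j)] ≤ Z i`**, `i ≠ j` -/
theorem comm_WQ {i j : Fin k} (hij : i ≠ j) {x w : G} (hx : x ∈ o2 (YQ Z j)) (hw : w ∈ WQ Z W i j) :
    x * w * x⁻¹ * w⁻¹ ∈ Z i := Loc.comm_WW h.mul.bg hij hx hw

end FrQ

end Cfsg.Agent.Omega.EK3.Q
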