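import Cfsg.Agent.Omega.EK3.Q.Par
import Cfsg.Agent.Omega.ML.Final

/-!
# (E), `k ≥ 3`, `q ≥ 4` (bb #22703, #23165): (NO), (NO) modulo a submodule, exactness, LIFTING

* `no_abs` : **(NO)** for `H` on `N / Y`, abstract form (over `ML.Final.MLK`);
* `FrQ.norm_ZJ_of`, `FrQ.cent_m`, `FrQ.norm_o2D` : an element of `Y_j` which normalises `Z_j` (centralises a vector of
  `Z_j`) normalises `Z_J`, `D`, `O₂(D)`;
* `FrQ.ker_le` : `A ≤ O₂(D)`, the kernel of `A` on `⟨m^H⟩ / Y` centralises `⟨m^H⟩`;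
* `FrQ.no'` : **(NO) for `T_j ≤ H ≤ Y_j` on `⟨m^H⟩ / Y`** if the elements of `H` fixing `m Y` normalise `Z_j`;
  `FrQ.no_H` : `Y = 1`;
* `FrQ.stab_le` : the elements of `H` fixing `m Y`, `m ∉ Y`, normalise `Z_j`; so `FrQ.no_mod`, `FrQ.no_N`;
* `FrQ.no` : **(NO)** for `Y_j` on `N_j`, `A ≤ O₂(D)`;  `FrQ.ex`, `FrQ.ex_H` : `N_i`, `N_j` (`⟨m^H⟩`, `⟨m'^{H'}⟩`) are
  exact on each other;
* `FrQ.lift`, `FrQ.lemQ`, `FrQ.sub_comm` : **LIFTING / LEMMA Q**.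
-/

set_option autoImplicit false
set_option linter.unusedSectionVars false

namespace Cfsg.Agent.Omega.EK3.Q

open Subgroup Cfsg Cfsg.Agent.ZN.ChoiceBase
open Cfsg.Agent.ZN (jj zj bau zc zl o2)
open Cfsg.Agent.ZN.ChoiceSit (Syl exists_syl syl_conj o2_le_syl syl_not_dvd)
open Cfsg.Agent.Omega.OM Cfsg.Agent.Omega.OM.Uni
open Cfsg.Agent.Omega.NO3S.EThree.Frame
open Cfsg.Agent.Omega.Node.MultiOf
open Cfsg.Agent.MinSimple.VModule (le_normalizer_o2 o2_isPGroup le_o2 o2_le mem_zc)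
open Cfsg.Agent.MinSimple.MinParabolic (IsMinPar)
open Cfsg.Agent.Omega.NoFF.Basic (V_le Z_le_V)
open Cfsg.Agent.Omega.ML.Final (MLK)
open scoped Pointwise

universe u

variable {G : Type u} [Group G] {k : ℕ}

/-! ### Abstract form -/

theorem bot_norm (H : Subgroup G) : H ≤ normalizer ((⊥ : Subgroup G) : Set G) := fun g _ => by
  rw [mem_normalizer_iff]
  intro x
  rw [mem_bot, mem_bot, conj_eq_one_iff]

/-- **(NO), abstract form**: `H` on `N / Y`, `N = ⟨w^H⟩` elementary abelian. -/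
theorem no_abs [Finite G] (hML : MLK.{u, u}) {H N Y T Q A M : Subgroup G} {w : G} (hK : IsKGroup H)
    (nN : H ≤ normalizer (N : Set G)) (nY : H ≤ normalizer (Y : Set G)) (YN : Y ≤ N)
    (ab : N ≤ centralizer (N : Set G)) (sq : ∀ x ∈ N, x ^ 2 = 1) (hw : w ∈ N)
    (gen : ∀ U : Subgroup G, w ∈ U → H ≤ normalizer (U : Set G) → N ≤ U)
    (hT : Syl T H) (hTw : T ≤ centralizer ({w} : Set G)) (QH : Q ≤ H) (Q2 : IsPGroup 2 Q)
    (Qw : Q ≤ centralizer ({w} : Set G))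
    (nQ : ∀ g ∈ H, g * w * g⁻¹ * w⁻¹ ∈ Y → ∀ x ∈ Q, g * x * g⁻¹ ∈ Q)
    (hA : A ≤ Q) (hA2 : ∀ a ∈ A, a ^ 2 = 1)
    (ker : ∀ a ∈ A, (∀ x ∈ N, a * x * a⁻¹ * x⁻¹ ∈ Y) → a ∈ centralizer (N : Set G))
    (hM : M ≤ N) (hMY : ∀ m ∈ M, ∀ a ∈ A, a * m * a⁻¹ * m⁻¹ ∈ Y) :
    (centralizer (N : Set G)).relIndex A ≤ M.relIndex N := by
  have hfix : ∀ t, t ∈ centralizer ({w} : Set G) → t * w * t⁻¹ * w⁻¹ ∈ Y := by
    intro t ht
    rw [mem_centralizer_singleton_iff.1 ht, mul_inv_cancel_right, mul_inv_cancel]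
    exact one_mem _
  have hAn : A ≤ normalizer (Y : Set G) := (hA.trans QH).trans nY
  -- `C_{N/Y}(A)`
  let CW : Subgroup G :=
    { carrier := {x | x ∈ N ∧ ∀ a ∈ A, a * x * a⁻¹ * x⁻¹ ∈ Y}
      one_mem' := ⟨one_mem _, fun a _ => by simp⟩
      mul_mem' := by
        rintro x y ⟨hx, hx'⟩ ⟨hy, hy'⟩
        refine ⟨mul_mem hx hy, fun a ha => ?_⟩
        have h1 := hx' a ha
        have h2 := hy' a ha
        have h3 : x * (a * y * a⁻¹ * y⁻¹) * x⁻¹ = a * y * a⁻¹ * y⁻¹ := by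
          have h4 := mem_centralizer_iff.1 (ab hx) _ (YN h2)
          rw [← h4]; group
        have e : a * (x * y) * a⁻¹ * (x * y)⁻¹ = (a * x * a⁻¹ * x⁻¹) * (x * (a * y * a⁻¹ * y⁻¹) * x⁻¹) := by group
        rw [e, h3]
        exact mul_mem h1 h2
      inv_mem' := by
        rintro x ⟨hx, hx'⟩
        refine ⟨inv_mem hx, fun a ha => ?_⟩
        have h1 := inv_mem (hx' a ha)
        have h4 := mem_centralizer_iff.1 (ab (inv_mem hx)) _ (YN h1)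
        have e : a * x⁻¹ * a⁻¹ * x⁻¹⁻¹ = x⁻¹ * (a * x * a⁻¹ * x⁻¹)⁻¹ * x⁻¹⁻¹ := by group
        rw [e, ← h4]
        have e2 : (a * x * a⁻¹ * x⁻¹)⁻¹ * x⁻¹ * x⁻¹⁻¹ = (a * x * a⁻¹ * x⁻¹)⁻¹ := by group
        rw [e2]
        exact h1 }
  have hMC : M ≤ CW := fun m hm => ⟨hM hm, fun a ha => hMY m hm a ha⟩
  have hmain : (A ⊓ centralizer (N : Set G)).relIndex A ≤ CW.relIndex N := by
    refine hML.grp (C := H) (W := N) (Y := Y) (T := T) (Q := Q) (A := A) (w := w) hK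
      { nW := nN
        nY := nY
        YW := YN
        WY := (ab.trans (centralizer_le YN)).trans (centralizer_le_normalizer _)
        sq := fun x hx => by rw [← pow_two, sq x hx]; exact one_mem _
        mem := hw
        gen := fun U hU _ hHU => gen U hU hHU
        TC := hT.1
        two := hT.2.1
        odd := syl_not_dvd hT
        fixT := fun t ht => hfix t (hTw ht)
        QC := QH
        Q2 := Q2
        fixQ := fun x hx => hfix x (Qw hx)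
        nrmQ := nQ
        AQ := hA
        Asq := fun a ha x _ => by
          have h1 : a * a = 1 := by rw [← pow_two]; exact hA2 a ha
          have e : a * (a * x * a⁻¹) * a⁻¹ * x⁻¹ = (a * a) * x * (a * a)⁻¹ * x⁻¹ := by group
          rw [e, h1]
          simp } (KA := A ⊓ centralizer (N : Set G)) (CW := CW) ?_ (fun x => Iff.rfl)
    intro a
    constructor
    · rintro ⟨h1, h2⟩
      refine ⟨h1, fun x hx => ?_⟩
      rw [← mem_centralizer_iff.1 h2 x hx, mul_inv_cancel_right, mul_inv_cancel]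
      exact one_mem _
    · rintro ⟨h1, h2⟩
      exact ⟨h1, ker a h1 h2⟩
  rw [inf_relIndex_left] at hmain
  refine hmain.trans ?_
  rw [← relIndex_mul_relIndex M CW N hMC fun x hx => hx.1]
  exact Nat.le_mul_of_pos_left _ (Nat.pos_of_ne_zero (OM.PG.Int.rix_ne _ _))

/-! ### Over the frame -/

namespace FrQ

variable [Finite G] {S : Sylow 2 G} {P K B ZJ : Subgroup G} {L W Z C : Fin k → Subgroup G} {q : ℕ}
  (h : FrQ S P K B ZJ L W Z C q)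
include h

/-- an element of `Y_j` which normalises `Z_j` normalises `O₂(D)` -/
theorem norm_o2D {j : Fin k} {y : G} (hy : y ∈ YQ Z j) (hj : y ∈ normalizer (Z j : Set G)) :
    y ∈ normalizer (o2 (centralizer (ZJ : Set G)) : Set G) := by
  have h1 : y ∈ normalizer ((centralizer (ZJ : Set G) : Subgroup G) : Set G) := by
    rw [mem_normalizer_iff_cj, cj_centralizer, mem_normalizer_iff_cj.1 (h.norm_ZJ' hy hj)]
  rw [mem_normalizer_iff_cj, ← pCore_cj, mem_normalizer_iff_cj.1 h1]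

theorem m_D {j : Fin k} {m : G} (hm : m ∈ Z j) : o2 (centralizer (ZJ : Set G)) ≤ centralizer ({m} : Set G) :=
  (o2_le _).trans (centralizer_le (Set.singleton_subset_iff.2 (h.bg.fr.Z_le j hm)))

/-- `⟨m^H⟩ ≤ N_j` -/
theorem VmH_le {j : Fin k} {m : G} (hm : m ∈ Z j) {H : Subgroup G} (hH : H ≤ YQ Z j) :
    NoFF.Basic.V (zpowers m) H ≤ NQ Z j := by
  refine V_le fun g hg => ?_
  rintro _ ⟨x, hx, rfl⟩
  have h1 : x ∈ NQ Z j := (zpowers_le.2 (h.Z_le_NQ j hm)) hx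
  exact (mem_normalizer_iff.1 (h.NQ_norm j (hH hg)) x).1 h1

/-- the kernel of `A ≤ O₂(D)` on `N / Y`, `N = ⟨m^H⟩`, centralises `N`, if the elements of `H` which fix `m Y` normalise
`Z_j`. -/
theorem ker_le {j : Fin k} {m : G} {H Y : Subgroup G} (hT : Syl (TY S Z j) H)
    (hTm : TY S Z j ≤ centralizer ({m} : Set G)) (hH : H ≤ YQ Z j) (hY : H ≤ normalizer (Y : Set G))
    (hst : ∀ g ∈ H, g * m * g⁻¹ * m⁻¹ ∈ Y → g ∈ normalizer (Z j : Set G))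
    {a : G} (ha : a ∈ o2 (centralizer (ZJ : Set G))) (haH : a ∈ H)
    (haY : ∀ x ∈ NoFF.Basic.V (zpowers m) H, a * x * a⁻¹ * x⁻¹ ∈ Y) :
    a ∈ centralizer (NoFF.Basic.V (zpowers m) H : Set G) := by
  set N := NoFF.Basic.V (zpowers m) H with hN
  have nN : H ≤ normalizer (N : Set G) := OM.KTwo.le_normalizer_V _ _
  have hmN : m ∈ N := OM.KTwo.le_V _ _ (mem_zpowers _)
  -- the kernel of `H` on `N / Y`
  let Kr : Subgroup G :=
    { carrier := {g | g ∈ H ∧ ∀ x ∈ N, g * x * g⁻¹ * x⁻¹ ∈ Y}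
      one_mem' := ⟨one_mem _, fun x _ => by simp⟩
      mul_mem' := by
        rintro a b ⟨ha, ha'⟩ ⟨hb, hb'⟩
        refine ⟨mul_mem ha hb, fun x hx => ?_⟩
        have e : a * b * x * (a * b)⁻¹ * x⁻¹ = (a * (b * x * b⁻¹ * x⁻¹) * a⁻¹) * (a * x * a⁻¹ * x⁻¹) := by group
        rw [e]
        exact mul_mem ((mem_normalizer_iff.1 (hY ha) _).1 (hb' x hx)) (ha' x hx)
      inv_mem' := by
        rintro a ⟨ha, ha'⟩
        refine ⟨inv_mem ha, fun x hx => ?_⟩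
        have e : a⁻¹ * x * a⁻¹⁻¹ * x⁻¹ = a⁻¹ * (a * x * a⁻¹ * x⁻¹)⁻¹ * a⁻¹⁻¹ := by group
        rw [e]
        exact (mem_normalizer_iff.1 (hY (inv_mem ha)) _).1 (inv_mem (ha' x hx)) }
  have hKH : Kr ≤ H := fun x hx => hx.1
  have hKn : H ≤ normalizer (Kr : Set G) := by
    refine ML.MinFrame.le_normalizer_of fun g hg x hx => ⟨mul_mem (mul_mem hg hx.1) (inv_mem hg), fun n hn => ?_⟩
    have h1 : g⁻¹ * n * g ∈ N := by
      have := (mem_normalizer_iff.1 (nN (inv_mem hg)) n).1 hn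
      rwa [inv_inv] at this
    have e : g * x * g⁻¹ * n * (g * x * g⁻¹)⁻¹ * n⁻¹ =
        g * (x * (g⁻¹ * n * g) * x⁻¹ * (g⁻¹ * n * g)⁻¹) * g⁻¹ := by group
    rw [e]
    exact (mem_normalizer_iff.1 (hY hg) _).1 (hx.2 _ h1)
  -- `a ∈ O₂(Kr)`
  have h1 : a ∈ o2 Kr := by
    refine le_o2 (L := Kr) (N := o2 (centralizer (ZJ : Set G)) ⊓ Kr) inf_le_right ((o2_isPGroup _).to_le inf_le_left) ?_
      (mem_inf.2 ⟨ha, haH, haY⟩)
    intro x hx
    have h2 := h.norm_o2D (hH hx.1) (hst x hx.1 (hx.2 m hmN))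
    rw [mem_normalizer_iff_cj, cj_inf, mem_normalizer_iff_cj.1 h2, cj_eq_of_mem_normalizer (Subgroup.le_normalizer hx)]
  -- `O₂(Kr) ⊴ H`
  have h2 : H ≤ normalizer (o2 Kr : Set G) := fun g hg => by
    rw [mem_normalizer_iff_cj, ← pCore_cj, mem_normalizer_iff_cj.1 (hKn hg)]
  have h3 : o2 Kr ≤ TY S Z j :=
    (le_o2 ((o2_le _).trans hKH) (o2_isPGroup _) h2).trans (o2_le_syl hT)
  have h4 : N ≤ centralizer ({a} : Set G) := by
    refine V_le fun g hg => ?_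
    rintro _ ⟨x, hx, rfl⟩
    have h5 : g⁻¹ * a * g ∈ centralizer ({m} : Set G) := by
      apply hTm
      apply h3
      have := (mem_normalizer_iff.1 (h2 (inv_mem hg)) a).1 h1
      rwa [inv_inv] at this
    have h6 : Commute (g⁻¹ * a * g) m := mem_centralizer_singleton_iff.1 h5
    obtain ⟨n, rfl⟩ := mem_zpowers_iff.1 hx
    have h7 : (g⁻¹ * a * g) * m ^ n = m ^ n * (g⁻¹ * a * g) := (h6.zpow_right n).eq
    rw [mem_centralizer_singleton_iff]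
    show g * m ^ n * g⁻¹ * a = a * (g * m ^ n * g⁻¹)
    calc g * m ^ n * g⁻¹ * a = g * (m ^ n * (g⁻¹ * a * g)) * g⁻¹ := by group
      _ = g * ((g⁻¹ * a * g) * m ^ n) * g⁻¹ := by rw [h7]
      _ = a * (g * m ^ n * g⁻¹) := by group
  exact mem_centralizer_iff.2 fun x hx => mem_centralizer_singleton_iff.1 (h4 hx)

/-- **(NO) modulo `Y`** : `T_j ≤ H ≤ Y_j`, `N = ⟨m^H⟩` elementary abelian, `Y ≤ N` normalised by `H`, the elements of `H`
fixing `m Y` normalise `Z_j`; `A ≤ O₂(D) ∩ H` elementary abelian, `M ≤ N`, `[M, A] ≤ Y`: `|A : C_A(N)| ≤ |N : M|`. -/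
theorem no' (hML : MLK.{u, u}) {j : Fin k} {m : G} {H Y A M : Subgroup G} (hK : IsKGroup (YQ Z j)) (hm : m ∈ Z j)
    (hTm : TY S Z j ≤ centralizer ({m} : Set G)) (hTH : TY S Z j ≤ H) (hH : H ≤ YQ Z j)
    (ab : NoFF.Basic.V (zpowers m) H ≤ centralizer (NoFF.Basic.V (zpowers m) H : Set G))
    (hY : H ≤ normalizer (Y : Set G)) (hYN : Y ≤ NoFF.Basic.V (zpowers m) H)
    (hst : ∀ g ∈ H, g * m * g⁻¹ * m⁻¹ ∈ Y → g ∈ normalizer (Z j : Set G))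
    (hA : A ≤ o2 (centralizer (ZJ : Set G))) (hAH : A ≤ H) (hA2 : ∀ a ∈ A, a ^ 2 = 1)
    (hM : M ≤ NoFF.Basic.V (zpowers m) H) (hMY : ∀ x ∈ M, ∀ a ∈ A, a * x * a⁻¹ * x⁻¹ ∈ Y) :
    (centralizer (NoFF.Basic.V (zpowers m) H : Set G)).relIndex A ≤ M.relIndex (NoFF.Basic.V (zpowers m) H) := by
  set N := NoFF.Basic.V (zpowers m) H with hN
  have hT : Syl (TY S Z j) H := h.syl_of hTH hH
  have hm2 : m ^ 2 = 1 := h.bg.fr.Vsq (h.bg.fr.ZV j hm)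
  -- `N` has exponent 2
  have sq : ∀ x ∈ N, x ^ 2 = 1 := by
    let E : Subgroup G :=
      { carrier := {x | x ∈ N ∧ x ^ 2 = 1}
        one_mem' := ⟨one_mem _, one_pow _⟩
        mul_mem' := by
          rintro x y ⟨hx, hx'⟩ ⟨hy, hy'⟩
          have h1 : Commute x y := mem_centralizer_iff.1 (ab hy) x hx
          exact ⟨mul_mem hx hy, by rw [h1.mul_pow, hx', hy', one_mul]⟩
        inv_mem' := by
          rintro x ⟨hx, hx'⟩
          exact ⟨inv_mem hx, by rw [inv_pow, hx', inv_one]⟩ }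
    have h1 : N ≤ E := by
      refine V_le fun g hg => ?_
      rintro _ ⟨x, hx, rfl⟩
      refine ⟨Z_le_V hg ⟨x, hx, rfl⟩, ?_⟩
      obtain ⟨n, rfl⟩ := mem_zpowers_iff.1 hx
      show (g * m ^ n * g⁻¹) ^ 2 = 1
      rw [conj_pow, ← zpow_natCast, ← zpow_mul, mul_comm, zpow_mul, zpow_natCast, hm2, one_zpow, mul_one,
        mul_inv_cancel]
    exact fun x hx => (h1 hx).2
  refine no_abs hML (Q := o2 (centralizer (ZJ : Set G)) ⊓ H) (w := m) (TC.kgroup_mono hK hH)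
    (OM.KTwo.le_normalizer_V _ _) hY hYN ab sq (OM.KTwo.le_V _ _ (mem_zpowers _)) ?_ hT hTm inf_le_right
    ((o2_isPGroup _).to_le inf_le_left) (inf_le_left.trans (h.m_D hm)) ?_ (le_inf hA hAH) hA2 ?_ hM hMY
  · intro U hU hHU
    refine V_le fun g hg => ?_
    rintro _ ⟨x, hx, rfl⟩
    have h1 : x ∈ U := (zpowers_le.2 hU) hx
    exact (mem_normalizer_iff.1 (hHU hg) x).1 h1
  · intro g hg hgY x hx
    have h1 := h.norm_o2D (hH hg) (hst g hg hgY)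
    exact mem_inf.2 ⟨(mem_normalizer_iff.1 h1 x).1 hx.1, H.mul_mem (H.mul_mem hg hx.2) (H.inv_mem hg)⟩
  · exact fun a ha haY => h.ker_le hT hTm hH hY hst (hA ha) (hAH ha) haY

/-- **(NO) for `T_j ≤ H ≤ Y_j` on `⟨m^H⟩`** -/
theorem no_H (hML : MLK.{u, u}) {j : Fin k} {m : G} {H A : Subgroup G} (hK : IsKGroup (YQ Z j)) (hm : m ∈ Z j)
    (hm1 : m ≠ 1) (hTm : TY S Z j ≤ centralizer ({m} : Set G)) (hTH : TY S Z j ≤ H) (hH : H ≤ YQ Z j)
    (hA : A ≤ o2 (centralizer (ZJ : Set G))) (hAH : A ≤ H) (hA2 : ∀ a ∈ A, a ^ 2 = 1) :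
    (centralizer (NoFF.Basic.V (zpowers m) H : Set G)).relIndex A ≤
      (centralizer (A : Set G)).relIndex (NoFF.Basic.V (zpowers m) H) := by
  have hN : NoFF.Basic.V (zpowers m) H ≤ NQ Z j := h.VmH_le hm hH
  have h1 := h.no' hML (Y := ⊥) (M := NoFF.Basic.V (zpowers m) H ⊓ centralizer (A : Set G)) hK hm hTm hTH hH
    (hN.trans ((h.NQ_comm j).trans (centralizer_le hN))) (bot_norm H) bot_le ?_ hA hAH hA2 inf_le_left ?_
  · rwa [inf_relIndex_left] at h1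
  · intro g hg hgm
    rw [mem_bot, mul_inv_eq_one] at hgm
    exact h.cent_m hm hm1 ⟨hH hg, mem_centralizer_singleton_iff.2 (mul_inv_eq_iff_eq_mul.1 hgm)⟩
  · intro x hx a ha
    rw [mem_bot, mem_centralizer_iff.1 hx.2 a ha, mul_inv_cancel_right, mul_inv_cancel]

/-- **(NO)** for `Y_j` on `N_j` -/
theorem no (hML : MLK.{u, u}) {j : Fin k} (hK : IsKGroup (YQ Z j)) {A : Subgroup G}
    (hA : A ≤ o2 (centralizer (ZJ : Set G))) (hA2 : ∀ a ∈ A, a ^ 2 = 1) :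
    (centralizer (NQ Z j : Set G)).relIndex A ≤ (centralizer (A : Set G)).relIndex (NQ Z j) := by
  obtain ⟨m, hm, hm1, hmT⟩ := h.exists_m j
  rw [h.NQ_eq hm hm1]
  exact h.no_H hML hK hm hm1 hmT (h.syl j).1 le_rfl hA (hA.trans (h.O_le_Y j)) hA2

/-- **exactness of `(N_i, N_j)`**: `|N_i : C_{N_i}(N_j)| = |N_j : C_{N_j}(N_i)|` -/
theorem ex (hML : MLK.{u, u}) (hK : ∀ j, IsKGroup (YQ Z j)) (i j : Fin k) : OM.PG.Int.Ex (NQ Z i) (NQ Z j) :=
  le_antisymm (h.no hML (hK j) (h.NQ_le_O i) fun _ hx => h.NQ_sq hx)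
    (h.no hML (hK i) (h.NQ_le_O j) fun _ hx => h.NQ_sq hx)

/-- exactness of `⟨m^H⟩` and `⟨m'^{H'}⟩` -/
theorem ex_H (hML : MLK.{u, u}) {i j : Fin k} (hKi : IsKGroup (YQ Z i)) (hKj : IsKGroup (YQ Z j)) {m m' : G}
    (hm : m ∈ Z i) (hm1 : m ≠ 1) (hTm : TY S Z i ≤ centralizer ({m} : Set G))
    (hm' : m' ∈ Z j) (hm1' : m' ≠ 1) (hTm' : TY S Z j ≤ centralizer ({m'} : Set G)) {H H' : Subgroup G}
    (hTH : TY S Z i ≤ H) (hH : H ≤ YQ Z i) (hTH' : TY S Z j ≤ H') (hH' : H' ≤ YQ Z j) :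
    OM.PG.Int.Ex (NoFF.Basic.V (zpowers m) H) (NoFF.Basic.V (zpowers m') H') := by
  have h1 : NoFF.Basic.V (zpowers m) H ≤ NQ Z i := h.VmH_le hm hH
  have h2 : NoFF.Basic.V (zpowers m') H' ≤ NQ Z j := h.VmH_le hm' hH'
  exact le_antisymm
    (h.no_H hML hKj hm' hm1' hTm' hTH' hH' (h1.trans (h.NQ_le_O i)) ((h1.trans (h.NQ_le_B i)).trans
      ((h.B_le_T j).trans hTH')) fun _ hx => h.NQ_sq (h1 hx))
    (h.no_H hML hKi hm hm1 hTm hTH hH (h2.trans (h.NQ_le_O j)) ((h2.trans (h.NQ_le_B j)).trans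
      ((h.B_le_T i).trans hTH)) fun _ hx => h.NQ_sq (h2 hx))

/-- **the stabiliser of `m Y` in `H` normalises `Z_j`**, `T_j ≤ H ≤ Y_j`, `H ≤ N(Y)`, `m ∉ Y` -/
theorem stab_le {j : Fin k} {m : G} {H Y : Subgroup G} (hm : m ∈ Z j)
    (hTm : TY S Z j ≤ centralizer ({m} : Set G)) (hTH : TY S Z j ≤ H) (hH : H ≤ YQ Z j)
    (hY : H ≤ normalizer (Y : Set G)) (hmY : m ∉ Y) :
    ∀ g ∈ H, g * m * g⁻¹ * m⁻¹ ∈ Y → g ∈ normalizer (Z j : Set G) := by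
  have hm1 : m ≠ 1 := fun e => hmY (e ▸ one_mem _)
  let K' : Subgroup G :=
    { carrier := {g | g ∈ H ∧ g * m * g⁻¹ * m⁻¹ ∈ Y}
      one_mem' := ⟨one_mem _, by simp⟩
      mul_mem' := by
        rintro a b ⟨ha, ha'⟩ ⟨hb, hb'⟩
        refine ⟨mul_mem ha hb, ?_⟩
        have e : a * b * m * (a * b)⁻¹ * m⁻¹ = (a * (b * m * b⁻¹ * m⁻¹) * a⁻¹) * (a * m * a⁻¹ * m⁻¹) := by group
        rw [e]
        exact mul_mem ((mem_normalizer_iff.1 (hY ha) _).1 hb') ha'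
      inv_mem' := by
        rintro a ⟨ha, ha'⟩
        refine ⟨inv_mem ha, ?_⟩
        have e : a⁻¹ * m * a⁻¹⁻¹ * m⁻¹ = a⁻¹ * (a * m * a⁻¹ * m⁻¹)⁻¹ * a⁻¹⁻¹ := by group
        rw [e]
        exact (mem_normalizer_iff.1 (hY (inv_mem ha)) _).1 (inv_mem ha') }
  have hTK : TY S Z j ≤ K' := fun t ht => ⟨hTH ht, by
    rw [mem_centralizer_singleton_iff.1 (hTm ht), mul_inv_cancel_right, mul_inv_cancel]
    exact one_mem _⟩
  have hKH : K' ≤ H := fun x hx => hx.1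
  suffices hs : K' ≤ normalizer (Z j : Set G) from fun g hg hgY => hs ⟨hg, hgY⟩
  refine Cfsg.Agent.MinSimple.MinParabolic.le_of_forall hTK ?_ ?_
  · rintro n ⟨hn, hnT⟩
    exact mem_normalizer_iff_cj.2 (h.fixB (h.norm_T_le j ⟨hH (hKH hn), hnT⟩) (hH (hKH hn)) j).2
  · intro R hR hRK
    rcases h.par hR ((hRK.trans hKH).trans hH) with h1 | ⟨-, h1, -⟩
    · exact h1
    exfalso
    have hZW := (h.bg.fr.blk j).ZV
    -- a second vector `x` of `Z_j`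
    obtain ⟨x, hx, hx1, hxm⟩ : ∃ x ∈ Z j, x ≠ 1 ∧ x ≠ m := by
      by_contra hcon
      push Not at hcon
      have h2 : (Z j : Set G) ⊆ {1, m} := fun x hx => by
        by_cases hx1 : x = 1
        · exact Or.inl hx1
        · exact Or.inr (hcon x hx hx1)
      have h3 := Set.ncard_le_ncard h2 (by simp)
      have h4 : ((Z j : Subgroup G) : Set G).ncard = Nat.card (Z j) := rfl
      have h5 : ({1, m} : Set G).ncard ≤ 2 := by
        have := Set.ncard_insert_le (1 : G) {m}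
        rwa [Set.ncard_singleton] at this
      have h6 := h.bg.fr.cardZ j
      have h7 := h.four
      omega
    have key : ∀ y ∈ W j, y ≠ 1 → y * m⁻¹ ∈ Y := by
      intro y hy hy1
      obtain ⟨r, hr, hry⟩ := h1 m (hZW hm) y hy hm1 hy1
      have h2 := (hRK hr).2
      rwa [hry] at h2
    have hm2 : m ^ 2 = 1 := h.bg.fr.Vsq (h.bg.fr.ZV j hm)
    have hmm : m * m = 1 := by rw [← pow_two]; exact hm2
    have h2 := key x (hZW hx) hx1
    have hxm1 : x * m ≠ 1 := fun e => hxm (by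
      rw [eq_inv_of_mul_eq_one_left e, inv_eq_of_mul_eq_one_left hmm])
    have h3 := key (x * m) (hZW (mul_mem hx hm)) hxm1
    rw [mul_inv_cancel_right] at h3
    apply hmY
    have h4 := mul_mem (inv_mem h2) h3
    have e : (x * m⁻¹)⁻¹ * x = m := by group
    rwa [e] at h4

/-- **(NO) modulo `Y`** : `T_j ≤ H ≤ Y_j`, `Y ≤ N = ⟨m^H⟩` normalised by `H`, `m ∉ Y`, `A ≤ O₂(D) ∩ H` elementary abelian,
`M ≤ N`, `[M, A] ≤ Y`: `|A : C_A(N)| ≤ |N : M|`. -/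
theorem no_mod (hML : MLK.{u, u}) {j : Fin k} {m : G} {H Y A M : Subgroup G} (hK : IsKGroup (YQ Z j)) (hm : m ∈ Z j)
    (hTm : TY S Z j ≤ centralizer ({m} : Set G)) (hTH : TY S Z j ≤ H) (hH : H ≤ YQ Z j)
    (hY : H ≤ normalizer (Y : Set G)) (hYN : Y ≤ NoFF.Basic.V (zpowers m) H) (hmY : m ∉ Y)
    (hA : A ≤ o2 (centralizer (ZJ : Set G))) (hAH : A ≤ H) (hA2 : ∀ a ∈ A, a ^ 2 = 1)
    (hM : M ≤ NoFF.Basic.V (zpowers m) H) (hMY : ∀ x ∈ M, ∀ a ∈ A, a * x * a⁻¹ * x⁻¹ ∈ Y) :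
    (centralizer (NoFF.Basic.V (zpowers m) H : Set G)).relIndex A ≤ M.relIndex (NoFF.Basic.V (zpowers m) H) :=
  h.no' hML hK hm hTm hTH hH ((h.VmH_le hm hH).trans ((h.NQ_comm j).trans (centralizer_le (h.VmH_le hm hH)))) hY hYN
    (h.stab_le hm hTm hTH hH hY hmY) hA hAH hA2 hM hMY

/-- **(NO) for `Y_j` on `N_j / Y`** -/
theorem no_N (hML : MLK.{u, u}) {j : Fin k} {Y A M : Subgroup G} (hK : IsKGroup (YQ Z j))
    (hY : YQ Z j ≤ normalizer (Y : Set G)) (hYN : Y ≤ NQ Z j) {m : G} (hm : m ∈ Z j) (hmY : m ∉ Y)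
    (hTm : TY S Z j ≤ centralizer ({m} : Set G))
    (hA : A ≤ o2 (centralizer (ZJ : Set G))) (hA2 : ∀ a ∈ A, a ^ 2 = 1)
    (hM : M ≤ NQ Z j) (hMY : ∀ x ∈ M, ∀ a ∈ A, a * x * a⁻¹ * x⁻¹ ∈ Y) :
    (centralizer (NQ Z j : Set G)).relIndex A ≤ M.relIndex (NQ Z j) := by
  have hm1 : m ≠ 1 := fun e => hmY (e ▸ one_mem _)
  have e := h.NQ_eq hm hm1
  rw [e]
  exact h.no_mod hML hK hm hTm (h.syl j).1 le_rfl hY (e ▸ hYN) hmY hA (hA.trans (h.O_le_Y j)) hA2 (e ▸ hM) hMY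

/-- **LIFTING / LEMMA Q**: `B' ≤ O₂(D)` exact on `N = ⟨m^H⟩`, `Y ≤ N` normalised by `H`, the elements of `H` fixing `m Y`
normalise `Z_j`, `M ≤ N`, `[M, B'] ≤ Y`: `[M, B'] = 1`. -/
theorem lift (hML : MLK.{u, u}) {j : Fin k} {m : G} {H Y A M : Subgroup G} (hK : IsKGroup (YQ Z j)) (hm : m ∈ Z j)
    (hTm : TY S Z j ≤ centralizer ({m} : Set G)) (hTH : TY S Z j ≤ H) (hH : H ≤ YQ Z j)
    (hY : H ≤ normalizer (Y : Set G)) (hYN : Y ≤ NoFF.Basic.V (zpowers m) H)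
    (hst : ∀ g ∈ H, g * m * g⁻¹ * m⁻¹ ∈ Y → g ∈ normalizer (Z j : Set G))
    (hA : A ≤ o2 (centralizer (ZJ : Set G))) (hAH : A ≤ H) (hA2 : ∀ a ∈ A, a ^ 2 = 1)
    (hEx : OM.PG.Int.Ex A (NoFF.Basic.V (zpowers m) H))
    (hM : M ≤ NoFF.Basic.V (zpowers m) H) (hMY : ∀ x ∈ M, ∀ a ∈ A, a * x * a⁻¹ * x⁻¹ ∈ Y) :
    M ≤ centralizer (A : Set G) := by
  have hVN : NoFF.Basic.V (zpowers m) H ≤ NQ Z j := h.VmH_le hm hH
  set N := NoFF.Basic.V (zpowers m) H with hN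
  have ab : N ≤ centralizer (N : Set G) := hVN.trans ((h.NQ_comm j).trans (centralizer_le hVN))
  -- `M' = M C_N(A)`
  have key : ∀ x ∈ M ⊔ (N ⊓ centralizer (A : Set G)), ∀ a ∈ A, a * x * a⁻¹ * x⁻¹ ∈ Y := by
    intro x hx a ha
    have hn : N ⊓ centralizer (A : Set G) ≤ normalizer (M : Set G) :=
      ((inf_le_left.trans ab).trans (centralizer_le hM)).trans (centralizer_le_normalizer _)
    obtain ⟨y, hy, c, hc, rfl⟩ := OM.KTwo.exists_mul_of_mem_sup hn hx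
    have h1 := mem_centralizer_iff.1 hc.2 a ha
    have h2 := hMY y hy a ha
    have e : a * (y * c) * a⁻¹ * (y * c)⁻¹ = (a * y * a⁻¹) * (a * c * a⁻¹) * c⁻¹ * y⁻¹ := by group
    rw [e, h1]
    have e2 : a * y * a⁻¹ * (c * a * a⁻¹) * c⁻¹ * y⁻¹ = a * y * a⁻¹ * y⁻¹ := by group
    rw [e2]
    exact h2
  have hM' : M ⊔ (N ⊓ centralizer (A : Set G)) ≤ N := sup_le hM inf_le_left
  have h0 : (centralizer (N : Set G)).relIndex A ≤ (M ⊔ (N ⊓ centralizer (A : Set G))).relIndex N :=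
    h.no' hML hK hm hTm hTH hH ab hY hYN hst hA hAH hA2 hM' key
  have h1 : (N ⊓ centralizer (A : Set G)).relIndex N = (centralizer (A : Set G)).relIndex N := inf_relIndex_left _ _
  have h2 := relIndex_mul_relIndex (N ⊓ centralizer (A : Set G)) (M ⊔ (N ⊓ centralizer (A : Set G))) N le_sup_right hM'
  have hEx' : (centralizer (N : Set G)).relIndex A = (centralizer (A : Set G)).relIndex N := hEx
  rw [h1, ← hEx'] at h2
  set r := (M ⊔ (N ⊓ centralizer (A : Set G))).relIndex N with hr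
  set q' := (N ⊓ centralizer (A : Set G)).relIndex (M ⊔ (N ⊓ centralizer (A : Set G))) with hq
  have hr0 : r ≠ 0 := OM.PG.Int.rix_ne _ _
  have hq1 : q' ≤ 1 := by
    by_contra hcon
    push Not at hcon
    have h3 : r < q' * r := by
      calc r = 1 * r := by rw [one_mul]
        _ < q' * r := Nat.mul_lt_mul_of_pos_right hcon (Nat.pos_of_ne_zero hr0)
    omega
  have hq0 : q' ≠ 0 := OM.PG.Int.rix_ne _ _
  have h3 : M ⊔ (N ⊓ centralizer (A : Set G)) ≤ N ⊓ centralizer (A : Set G) := relIndex_eq_one.1 (by omega)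
  exact (le_sup_left.trans h3).trans inf_le_right

/-- **LEMMA Q**: `i, j`, `Y` a proper submodule of `N_j` (`m ∉ Y`), `M ≤ N_j`, `[M, N_i] ≤ Y`: `[M, N_i] = 1`. -/
theorem lemQ (hML : MLK.{u, u}) (hK : ∀ j, IsKGroup (YQ Z j)) {i j : Fin k} {Y M : Subgroup G}
    (hY : YQ Z j ≤ normalizer (Y : Set G)) (hYN : Y ≤ NQ Z j) {m : G} (hm : m ∈ Z j) (hmY : m ∉ Y)
    (hTm : TY S Z j ≤ centralizer ({m} : Set G)) (hM : M ≤ NQ Z j)
    (hMY : ∀ x ∈ M, ∀ a ∈ NQ Z i, a * x * a⁻¹ * x⁻¹ ∈ Y) : M ≤ centralizer (NQ Z i : Set G) := by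
  have hm1 : m ≠ 1 := fun e => hmY (e ▸ one_mem _)
  have e := h.NQ_eq hm hm1
  have hEx := h.ex hML hK i j
  rw [e] at hEx
  exact h.lift hML (hK j) hm hTm (h.syl j).1 le_rfl hY (e ▸ hYN) (h.stab_le hm hTm (h.syl j).1 le_rfl hY hmY)
    (h.NQ_le_O i) ((h.NQ_le_O i).trans (h.O_le_Y j)) (fun _ hx => h.NQ_sq hx) hEx (e ▸ hM) hMY

/-- **LEMMA Q**: every `Y_j`-submodule `Y` of `N_j` with `m ∉ Y` is centralised by `N_i`, if `N_i ≤ Y_j` (always). -/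
theorem sub_comm (hML : MLK.{u, u}) (hK : ∀ j, IsKGroup (YQ Z j)) {i j : Fin k} {Y : Subgroup G}
    (hY : YQ Z j ≤ normalizer (Y : Set G)) (hYN : Y ≤ NQ Z j) {m : G} (hm : m ∈ Z j) (hmY : m ∉ Y)
    (hTm : TY S Z j ≤ centralizer ({m} : Set G)) : Y ≤ centralizer (NQ Z i : Set G) :=
  h.lemQ hML hK hY hYN hm hmY hTm hYN fun x hx _ ha => mul_mem
    ((mem_normalizer_iff.1 (hY ((h.NQ_le_O i).trans (h.O_le_Y j) ha)) x).1 hx) (inv_mem hx)

end FrQ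

end Cfsg.Agent.Omega.EK3.Q
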