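import Cfsg.Agent.Omega.EK3.StarE
import Cfsg.Agent.Omega.EK3.Q.LocQ
import Cfsg.Agent.Omega.EK3.Q.Inst

/-!
# (E), `k ≥ 3`, `q ≥ 4` (bb #22703, #23133, #23990): the output of STAR over the frame `FrQ`

`OutQ` : `i ≠ j`, an elementary abelian `F ≤ O₂(D)` which centralises `N_i`, moves `N_j`, is exact on every `M` between `N_j` and
`E_ij`, and is low: `F ≤ O₂(C_{Y_j}(W_i))`.
-/

set_option autoImplicit false
set_option linter.unusedSectionVars false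

namespace Cfsg.Agent.Omega.EK3.Q

open Subgroup Cfsg Cfsg.Agent.ZN.ChoiceBase
open Cfsg.Agent.ZN (zc zl o2)
open Cfsg.Agent.Omega.NO3S.EThree
open Cfsg.Agent.Omega.NO3S.EThree.Frame
open Cfsg.Agent.Omega.NO3S.EThree.ExactA (eab_mono eab_iff)
open Cfsg.Agent.Omega.Node.MultiOf
open Cfsg.Agent.Omega.EK3.StarE (EE)
open Cfsg.Agent.Omega.NoFF.Basic (V)

universe u

variable {G : Type u} [Group G] {k : ℕ}

/-- **The output of STAR for `q ≥ 4`.** -/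
structure OutQ (ZJ : Subgroup G) (W Z : Fin k → Subgroup G) (i j : Fin k) (F : Subgroup G) : Prop where
  ne : i ≠ j
  eab : IsElementaryAbelian 2 F
  leO : F ≤ o2 (centralizer (ZJ : Set G))
  cent : F ≤ centralizer (NQ Z i : Set G)
  mov : ¬ F ≤ centralizer (NQ Z j : Set G)
  low : F ≤ o2 (YQ Z j ⊓ centralizer (W i : Set G))
  /-- `C_F(N_j)` centralises `E = ⟨ZJ^⟨Y_i,Y_j⟩⟩` -/
  le_cent : F ⊓ centralizer (NQ Z j : Set G) ≤ centralizer (EE ZJ (YQ Z i ⊔ YQ Z j) : Set G)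
  /-- `E = N_j C_E(F)` -/
  le_sup : EE ZJ (YQ Z i ⊔ YQ Z j) ≤ NQ Z j ⊔ (EE ZJ (YQ Z i ⊔ YQ Z j) ⊓ centralizer (F : Set G))
  /-- `F` is exact on every `M` between `N_j` and `E` -/
  exact : ∀ M : Subgroup G, NQ Z j ≤ M → M ≤ EE ZJ (YQ Z i ⊔ YQ Z j) →
    F ⊓ centralizer (NQ Z j : Set G) ≤ centralizer (M : Set G) ∧
      (centralizer (M : Set G)).relIndex F = (centralizer (NQ Z j : Set G)).relIndex F ∧
      (centralizer (F : Set G)).relIndex M = (centralizer (NQ Z j : Set G)).relIndex F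
  /-- (NO) for the subgroups of `F` on `M` -/
  no_sub : ∀ M A : Subgroup G, NQ Z j ≤ M → M ≤ EE ZJ (YQ Z i ⊔ YQ Z j) → A ≤ F →
    (centralizer (M : Set G)).relIndex A ≤ (centralizer (A : Set G)).relIndex M

theorem ZJ_le_EE (ZJ H : Subgroup G) : ZJ ≤ EE ZJ H := StarE.le_EE _ _

theorem V_le_EE {A A' H H' : Subgroup G} (hA : A ≤ A') (hH : H ≤ H') : V A H ≤ EE A' H' :=
  Loc.V_le_of_normal (hA.trans (StarE.le_EE A' H')) (hH.trans (StarE.norm_EE A' H'))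

/-- `N_i ≤ E` -/
theorem NQ_le_EE {ZJ : Subgroup G} {Z : Fin k → Subgroup G} {i : Fin k} {H : Subgroup G} (hZ : Z i ≤ ZJ)
    (hH : YQ Z i ≤ H) : NQ Z i ≤ EE ZJ H := V_le_EE hZ hH

/-- `W_ij ≤ E` -/
theorem WQ_le_EE {ZJ : Subgroup G} {Z W : Fin k → Subgroup G} {i j : Fin k} {H : Subgroup G} (hZ : Z i ≤ ZJ)
    (hW : W i ≤ NQ Z i) (hH : YQ Z i ⊔ YQ Z j ≤ H) : WQ Z W i j ≤ EE ZJ H := by
  refine Loc.V_le_of_normal (hW.trans (NQ_le_EE hZ (le_sup_left.trans hH))) ?_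
  exact (le_sup_right.trans hH).trans (StarE.norm_EE ZJ H)

/-- `E_i,j` of 120 is at least `⟨ZJ^⟨Y_i,Y_j⟩⟩` -/
theorem EE_le_EQ (ZJ : Subgroup G) (Z : Fin k → Subgroup G) (i j : Fin k) :
    EE ZJ (YQ Z i ⊔ YQ Z j) ≤ EQ Z ZJ i j := StarE.EE_le fun _ hy =>
  Loc.cj_le_V (sup_le (YQ_le_left Z i j) (YQ_le_right Z i j) hy)

namespace FrQ

variable [Finite G] {S : Sylow 2 G} {P K B ZJ : Subgroup G} {L W Z C : Fin k → Subgroup G} {q : ℕ}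
  (h : FrQ S P K B ZJ L W Z C q)
include h

theorem EE_le_O (i j : Fin k) : EE ZJ (YQ Z i ⊔ YQ Z j) ≤ o2 (centralizer (ZJ : Set G)) :=
  (EE_le_EQ ZJ Z i j).trans (h.EQ_le_O i j)

theorem EE_le_B (i j : Fin k) : EE ZJ (YQ Z i ⊔ YQ Z j) ≤ B := (h.EE_le_O i j).trans h.O_le_B

theorem W_le_NQ' (j : Fin k) : W j ≤ NQ Z j := Loc.W_le_N h.mul.bg j

theorem WQ_le_EE' (i j : Fin k) : WQ Z W i j ≤ EE ZJ (YQ Z i ⊔ YQ Z j) :=
  WQ_le_EE (h.mul.bg.fr.Z_le i) (h.W_le_NQ' i) le_rfl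

theorem NQ_le_EE' (i j : Fin k) : NQ Z j ≤ EE ZJ (YQ Z i ⊔ YQ Z j) :=
  NQ_le_EE (h.mul.bg.fr.Z_le j) le_sup_right

/-- **STAR for `q ≥ 4`.** -/
theorem exists_out {L' : Fin k → Subgroup G}
    (hF : StarE.Fr (o2 (centralizer (ZJ : Set G))) (centralizer (ZJ : Set G)) ZJ (YQ Z) (NQ Z) L')
    (hO : o2 (centralizer (ZJ : Set G)) ≠ ⊥)
    (hLC : ∀ i j, i ≠ j → L' i ≤ normalizer ((YQ Z j ⊓ centralizer (W i : Set G) : Subgroup G) : Set G))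
    (hLZ : ∀ i j, i ≠ j → L' i ≤ centralizer (Z j : Set G)) :
    ∃ i j F, OutQ ZJ W Z i j F := by
  obtain ⟨i, j, F₁, F, x, o⟩ := hF.star hO
  refine ⟨i, j, F, ⟨o.ne, o.eab, o.leO, o.le_centi, o.mov, ?_, o.le_cent hF, o.le_sup hF,
    fun M h1 h2 => o.exact hF h1 h2, fun M A h1 h2 h3 => o.no_sub hF h1 h2 h3⟩⟩
  exact o.low hF (V := W i) (Zp := Z j) (MinSimple.VModule.o2_isPGroup _) (h.W_le_NQ' i) (hLC i j o.ne)
    ((hLZ i j o.ne).trans (centralizer_le_normalizer _)) (Z_le_NQ Z j) (h.stab j).le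

end FrQ

end Cfsg.Agent.Omega.EK3.Q
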