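import Cfsg.Agent.Omega.EK3.Q.Def
import Cfsg.Agent.Omega.NO3S.EMany.Four

/-!
# (E), `q ≥ 4` (bb #22041, #23165 (H)): the hypothesis `ti` of the frame `FrQ` from THEOREM Y

* `TOne ZJ Z` : **(T1)** if `Y ≤ Z_J` meets every `Z i` nontrivially, then `C_G(Y) ≤ N_G(Z_J)`;
* `Uni0 B ZJ Z C` : an FF-block over `B` moves every `z ∈ Z l`, `z ≠ 1`, for some `l`, and centralises `Z_J ⊓ C l`;
  `uni0_of` : from `FrQ.uni`;
* `fixZ` : an element of `N_G(Z_J)` centralising some `z ∈ Z i`, `z ≠ 1`, normalises `Z i`;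
* `cent_le_of` : generation of `C_G(Y)`, `Y ≤ Z_J`;
* `tOne_of` : (T1) from `C_G(Ω₁(Z(T))) ≤ N_G(Z_J)` for the 2-groups `T ≥ B` normalising every `Z i`;
* `ti_of` : **(T2)** `C_G(z) ⊓ C_ij ≤ N_G(Z i)` for `z ∈ Z i`, `z ≠ 1`, `i ≠ j`.  For `k = 2` this is `C_G(z) ≤ N_G(Z i)`.
-/

set_option autoImplicit false
set_option linter.unusedSectionVars false

namespace Cfsg.Agent.Omega.EK3.Q

open Subgroup Cfsg Cfsg.Agent.ZN.ChoiceBase
open Cfsg.Agent.ZN (jj zj bau zc zl o2)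
open Cfsg.Agent.ZN.ChoiceSit (Syl exists_syl le_o2 o2_le_syl isPGroup_o2 le_normalizer_o2)
open Cfsg.Agent.MinSimple.MinParabolic (IsMinPar)
open Cfsg.Agent.Omega.NO3S.EThree.Frame
open Cfsg.Agent.Omega.Node.MultiOf
open Cfsg.Agent.Omega.TC.OfMul (BlkS)

universe u

variable {G : Type u} [Group G]

/-- **(T1)** -/
def TOne {ι : Type} (ZJ : Subgroup G) (Z : ι → Subgroup G) : Prop :=
  ∀ Y ≤ ZJ, (∀ i, ∃ z ∈ Z i, z ≠ 1 ∧ z ∈ Y) → centralizer (Y : Set G) ≤ normalizer (ZJ : Set G)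

/-- The weak form of UNI+ -/
def Uni0 {ι : Type} (B ZJ : Subgroup G) (Z C : ι → Subgroup G) : Prop :=
  ∀ L' V' : Subgroup G, FBl B L' V' → ∃ l, (∀ z ∈ Z l, z ≠ 1 → ∃ x ∈ L', x * z ≠ z * x) ∧
    ∀ z ∈ ZJ, z ∈ C l → ∀ x ∈ L', x * z = z * x

section

variable [Finite G] {S : Sylow 2 G} {P K B ZJ : Subgroup G} {k : ℕ} {L W Z C : Fin k → Subgroup G} {q : ℕ}

/-- An element of `N_G(Z_J)` which centralises some `z ∈ Z i`, `z ≠ 1`, normalises `Z i`. -/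
theorem fixZ (h : Bg S P B ZJ L W Z C q) {g : G} (hg : g ∈ normalizer (ZJ : Set G)) {i : Fin k} {z : G}
    (hz : z ∈ Z i) (h1 : z ≠ 1) (hc : g * z = z * g) : g ∈ normalizer (Z i : Set G) := by
  obtain ⟨d, hd, hdg⟩ := NO3S.EMany.Four.exists_frattini h hg
  have hdi : d ∈ normalizer (Z i : Set G) := (mem_inf.1 (NO3S.EMany.Four.cent_le h i i hd)).1
  obtain ⟨j, hj, -⟩ := (h.nrm _ hdg).2 i
  have hdz : d * z = z * d := (mem_centralizer_iff.1 hd z (h.fr.Z_le i hz)).symm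
  have h2 : z ∈ Z j := by
    rw [← hj]
    refine ⟨z, hz, ?_⟩
    show d * g * z * (d * g)⁻¹ = z
    have : d * g * z = z * (d * g) := by rw [mul_assoc, hc, ← mul_assoc, hdz, mul_assoc]
    rw [this]; group
  have hij : i = j := by
    by_contra hne
    have h3 : z ∈ Z i ⊓ Z j := mem_inf.2 ⟨hz, h2⟩
    rw [h.Z_disj hne, mem_bot] at h3
    exact h1 h3
  subst hij
  have h4 : d * g ∈ normalizer (Z i : Set G) := mem_normalizer_iff_cj.2 hj
  have h5 := mul_mem (inv_mem hdi) h4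
  rwa [inv_mul_cancel_left] at h5

/-- an FF-block with module `W i` is natural -/
theorem uni0_of (h : Bg S P B ZJ L W Z C q)
    (hu : ∀ L' V' : Subgroup G, FBl B L' V' → ∃ i, V' = W i ∧ ∀ z ∈ ZJ, z ∈ C i → ∀ l ∈ L', l * z = z * l) :
    Uni0 B ZJ Z C := by
  intro L' V' hb
  obtain ⟨i, rfl, hc⟩ := hu L' V' hb
  obtain ⟨⟨Z', q', hF⟩, -⟩ := hb
  refine ⟨i, fun z hz h1 => ?_, hc⟩
  have hZ' : Z' = Z i := by
    ext x
    rw [hF.toMd.mem_Z_iff, (h.fr.blk i).toMd.mem_Z_iff]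
  subst hZ'
  have hq : q' = q := by
    have e1 := hF.card
    rw [(h.fr.blk i).card] at e1
    exact (Nat.eq_of_mul_eq_mul_left Nat.card_pos e1).symm
  subst hq
  obtain ⟨x, hx, hne, -⟩ := hF.exists_mv
  refine ⟨x, hx, fun hc => h1 ?_⟩
  have h2 : z ∈ cj x (Z i) ⊓ Z i := by
    refine mem_inf.2 ⟨⟨z, hz, ?_⟩, hz⟩
    show x * z * x⁻¹ = z
    rw [hc]; group
  rwa [hF.nat_tri (h.fr.cardZ i) hx hne, mem_bot] at h2

/-- **Generation of `C_G(Y)`**, `1 ≠ Y ≤ Z_J`. -/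
theorem cent_le_of (h : Bg S P B ZJ L W Z C q) (lb : OM.LevD.LB S K B ZJ)
    (blk : ∀ T : Subgroup G, B ≤ T → BlkS K B T) {Y₀ X : Subgroup G} (hYJ : Y₀ ≤ ZJ) (hYne : Y₀ ≠ ⊥)
    (hX : centralizer (Y₀ : Set G) ⊓ normalizer (ZJ : Set G) ≤ X)
    (hz : ∀ T Y : Subgroup G, Syl T (centralizer (Y₀ : Set G)) → B ≤ T → T ≤ normalizer (B : Set G) →
      Y ≤ centralizer (Y₀ : Set G) → Y ≤ centralizer (zc T : Set G) → Y ≤ X)
    (hb : ∀ L' V' : Subgroup G, FBl B L' V' → L' ≤ centralizer (Y₀ : Set G) → L' ≤ X) :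
    centralizer (Y₀ : Set G) ≤ X := by
  set H : Subgroup G := centralizer (Y₀ : Set G) with hH
  have hBH : B ≤ H := by
    rw [hH, le_centralizer_iff]
    exact hYJ.trans (le_centralizer_iff.1 lb.Bc)
  have hchar : H ⊓ centralizer (o2 H : Set G) ≤ o2 H :=
    OM.Swap.char2_cent h.hyp.ctx.char2 (lb.Bp.to_le (hYJ.trans lb.ZB)) hYne
  obtain ⟨T, hT, hBT⟩ := exists_syl lb.Bp hBH
  have hTB : T ≤ normalizer (B : Set G) := lb.two_le hT.2.1 hBT
  have hTJ : T ≤ normalizer (ZJ : Set G) := hTB.trans h.norm_ZJ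
  refine MinSimple.MinParabolic.le_of_forall hT.1 ?_ fun Y hY hYH => ?_
  · rintro x ⟨hx, hxT⟩
    exact hX ⟨hx, (lb.nrm T hT.2.1 (lb.KB.trans hBT)) hxT⟩
  have hTY : Syl T Y := ⟨hY.le, hT.2.1, fun Q hQ h2 hTQ => hT.2.2 Q (hQ.trans hYH) h2 hTQ⟩
  by_cases hK : K ≤ o2 Y
  · intro x hx
    exact hX ⟨hYH hx, (lb.nrm _ (MinSimple.VModule.o2_isPGroup _) hK)
      (MinSimple.VModule.le_normalizer_o2 Y hx)⟩
  by_cases hZ : Y ≤ centralizer (zc T : Set G)
  · exact hz T Y hT hBT hTB hYH hZ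
  · -- a block
    have hcY : Y ⊓ centralizer (o2 Y : Set G) ≤ o2 Y := by
      have h4 : o2 H ≤ o2 Y :=
        le_o2 (isPGroup_o2 H) ((o2_le_syl hT).trans hY.le) (hYH.trans (le_normalizer_o2 H))
      rintro x ⟨hx, hxc⟩
      exact h4 (hchar ⟨hYH hx, centralizer_le (by exact_mod_cast h4) hxc⟩)
    obtain ⟨L', V', hb', h2, h3⟩ := blk T hBT Y hY hTY hcY hK hZ
    exact h3.trans (sup_le (hb L' V' hb' (h2.trans hYH)) fun x hx => hX ⟨hT.1 hx, hTJ hx⟩)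

/-- **(T1)** from `C_G(Ω₁(Z(T))) ≤ N_G(Z_J)`. -/
theorem tOne_of (h : Bg S P B ZJ L W Z C q) (lb : OM.LevD.LB S K B ZJ)
    (blk : ∀ T : Subgroup G, B ≤ T → BlkS K B T) (uni : Uni0 B ZJ Z C) (hk : 0 < k)
    (hT : ∀ T : Subgroup G, IsPGroup 2 T → B ≤ T → (∀ i, T ≤ normalizer (Z i : Set G)) →
      centralizer (zc T : Set G) ≤ normalizer (ZJ : Set G)) : TOne ZJ Z := by
  intro Y₀ hYJ hYi
  have hYne : Y₀ ≠ ⊥ := by
    rintro rfl
    obtain ⟨z, -, h1, h2⟩ := hYi ⟨0, hk⟩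
    exact h1 (mem_bot.1 h2)
  refine cent_le_of h lb blk hYJ hYne inf_le_right ?_ ?_
  · intro T Y hTH hBT hTB _ hY
    refine hY.trans (hT T hTH.2.1 hBT fun i x hx => ?_)
    obtain ⟨z, hz, h1, h2⟩ := hYi i
    exact fixZ h (h.norm_ZJ (hTB hx)) hz h1 (mem_centralizer_iff.1 (hTH.1 hx) z h2).symm
  · intro L' V' hb hL'
    obtain ⟨l, hno, -⟩ := uni L' V' hb
    obtain ⟨z, hz, h1, h2⟩ := hYi l
    obtain ⟨x, hx, hne⟩ := hno z hz h1
    exact absurd (mem_centralizer_iff.1 (hL' hx) z h2).symm hne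

/-- **(T2)** from the frame `Bg`. -/
theorem ti_of_bg (h : Bg S P B ZJ L W Z C q) (lb : OM.LevD.LB S K B ZJ)
    (blk : ∀ T : Subgroup G, B ≤ T → BlkS K B T) (uni : Uni0 B ZJ Z C) (t1 : TOne ZJ Z)
    (i j : Fin k) (hij : i ≠ j) (z : G) (hz : z ∈ Z i) (h1 : z ≠ 1) :
    centralizer ({z} : Set G) ⊓ CQ Z i j ≤ normalizer (Z i : Set G) := by
  classical
  set Y₀ : Subgroup G := zpowers z ⊔ ⨆ l : {l : Fin k // l ≠ i ∧ l ≠ j}, Z l with hY₀
  have hzY : z ∈ Y₀ := mem_sup_left (mem_zpowers z)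
  have hlY : ∀ l, l ≠ i → l ≠ j → Z l ≤ Y₀ := fun l h1 h2 =>
    (le_iSup (fun l : {l : Fin k // l ≠ i ∧ l ≠ j} => Z l) ⟨l, h1, h2⟩).trans le_sup_right
  have hYJ : Y₀ ≤ ZJ := sup_le (by rw [zpowers_le]; exact h.fr.Z_le i hz) (iSup_le fun l => h.fr.Z_le l)
  have hYne : Y₀ ≠ ⊥ := by
    intro e
    rw [e, mem_bot] at hzY
    exact h1 hzY
  set H : Subgroup G := centralizer (Y₀ : Set G) with hH
  have hle : centralizer ({z} : Set G) ⊓ CQ Z i j ≤ H := by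
    rw [hH, le_centralizer_iff, hY₀]
    refine sup_le ?_ (iSup_le fun l => ?_)
    · rw [zpowers_le, mem_centralizer_iff]
      intro x hx
      exact mem_centralizer_singleton_iff.1 (mem_inf.1 hx).1
    · rw [le_centralizer_iff]
      exact inf_le_right.trans (CQ_cent l.2.1 l.2.2)
  have hcz : ∀ x ∈ H, x * z = z * x := fun x hx => (mem_centralizer_iff.1 hx z hzY).symm
  have hcl : ∀ l, l ≠ i → l ≠ j → ∀ x ∈ H, ∀ y ∈ Z l, x * y = y * x := fun l h1 h2 x hx y hy =>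
    (mem_centralizer_iff.1 hx y (hlY l h1 h2 hy)).symm
  have hfix : ∀ x ∈ H, x ∈ normalizer (ZJ : Set G) → x ∈ normalizer (Z i : Set G) := fun x hx hxJ =>
    fixZ h hxJ hz h1 (hcz x hx)
  refine hle.trans (cent_le_of h lb blk hYJ hYne (fun x hx => hfix x hx.1 hx.2) ?_ ?_)
  · -- `Y` centralises an element of every `Z l`
    intro T Y hT hBT hTB hYH hZ
    have hTj : ∀ x ∈ T, ∀ v ∈ Z j, x * v * x⁻¹ ∈ Z j := by
      intro x hx v hv
      obtain ⟨m, hm, -⟩ := (h.nrm x (hTB hx)).2 j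
      have hmj : m = j := by
        by_contra hmj
        -- `x` fixes `Z m` (`m ≠ j`)
        have hxm : cj x (Z m) = Z m := by
          by_cases hmi : m = i
          · rw [hmi]
            exact mem_normalizer_iff_cj.1 (hfix x (hT.1 hx) (h.norm_ZJ (hTB hx)))
          · refine Subgroup.eq_of_le_of_card_ge ?_ (by rw [card_cj])
            rintro _ ⟨y, hy, rfl⟩
            show x * y * x⁻¹ ∈ Z m
            rw [hcl m hmi hmj x (hT.1 hx) y hy]
            have : y * x * x⁻¹ = y := by group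
            rwa [this]
        have h3 : Z j = Z m := by
          have h4 : cj x⁻¹ (cj x (Z j)) = cj x⁻¹ (cj x (Z m)) := by rw [hm, hxm]
          rwa [cj_inv_cj, cj_inv_cj] at h4
        exact hmj (h.Z_inj h3).symm
      subst hmj
      rw [← hm]
      exact ⟨v, hv, rfl⟩
    obtain ⟨y, hy, hy1, hyT⟩ := NO3S.EMany.Four.exists_fix hT.2.1 (h.Z_two j) (h.Z_ne j) hTj
    have hyc : y ∈ zc T := by
      refine mem_zc.2 ⟨hBT ((h.fr.blk j).VB ((h.fr.blk j).ZV hy)), h.fr.Vsq (h.fr.ZV j hy), fun x hx => ?_⟩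
      have h2 := hyT x hx
      calc x * y = x * y * x⁻¹ * x := by group
        _ = y * x := by rw [h2]
    have h3 : Y ≤ normalizer (ZJ : Set G) := by
      refine le_trans ?_ (t1 (ZJ ⊓ centralizer (Y : Set G)) inf_le_left fun l => ?_)
      · rw [le_centralizer_iff]
        exact inf_le_right
      · by_cases hlj : l = j
        · subst hlj
          refine ⟨y, hy, hy1, mem_inf.2 ⟨h.fr.Z_le l hy, mem_centralizer_iff.2 fun x hx => ?_⟩⟩
          exact (mem_centralizer_iff.1 (hZ hx) y hyc).symm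
        by_cases hli : l = i
        · subst hli
          exact ⟨z, hz, h1, mem_inf.2 ⟨h.fr.Z_le l hz, mem_centralizer_iff.2 fun x hx => hcz x (hYH hx)⟩⟩
        · obtain ⟨v, hv, hv1⟩ : ∃ v ∈ Z l, v ≠ 1 := by
            by_contra hcon
            push Not at hcon
            exact h.Z_ne l ((eq_bot_iff_forall _).2 hcon)
          exact ⟨v, hv, hv1, mem_inf.2 ⟨h.fr.Z_le l hv, mem_centralizer_iff.2 fun x hx =>
            hcl l hli hlj x (hYH hx) v hv⟩⟩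
    exact fun x hx => hfix x (hYH hx) (h3 hx)
  · -- a block
    intro L' V' hb hL'H
    obtain ⟨l, hno, hlc⟩ := uni L' V' hb
    have hlj : l = j := by
      by_contra hlj
      by_cases hli : l = i
      · subst hli
        obtain ⟨x, hx, hne⟩ := hno z hz h1
        exact hne (hcz x (hL'H hx))
      · obtain ⟨v, hv, hv1⟩ : ∃ v ∈ Z l, v ≠ 1 := by
          by_contra hcon
          push Not at hcon
          exact h.Z_ne l ((eq_bot_iff_forall _).2 hcon)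
        obtain ⟨x, hx, hne⟩ := hno v hv hv1
        exact hne (hcl l hli hlj x (hL'H hx) v hv)
    subst hlj
    refine le_trans ?_ (centralizer_le_normalizer (Z i : Set G))
    intro x hx
    refine mem_centralizer_iff.2 fun y hy => ?_
    exact (hlc y (h.fr.Z_le i hy) (h.fr.WjC l i hij.symm ((h.fr.blk i).ZV hy)) x hx).symm

/-- **(T2)** over `Mul`. -/
theorem ti_of (h : Mul S P K B ZJ L W Z C q) (blk : ∀ T : Subgroup G, B ≤ T → BlkS K B T) (uni : Uni0 B ZJ Z C)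
    (t1 : TOne ZJ Z) : ∀ i j, i ≠ j → ∀ z ∈ Z i, z ≠ 1 →
      centralizer ({z} : Set G) ⊓ CQ Z i j ≤ normalizer (Z i : Set G) := fun i j hij z hz h1 =>
  ti_of_bg h.bg h.lb blk uni t1 i j hij z hz h1

end

end Cfsg.Agent.Omega.EK3.Q
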