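import Cfsg.Agent.Omega.EK3.FK.Ti

/-!
# Row (8) of the ledger #22041: `EOf K (3 ≤ k ∧ 4 ≤ q)`, all stages (assembly; bb #22703, #22920, #23990)

* `MidIn` : the frame `FrQ` is impossible (socket);
* `kgroup_of`, `kgroup_YQ` : `C_G(Z_l : l ≠ j)` is a K-group;
* `eOf_of` : **row (8)**.
-/

set_option autoImplicit false
set_option linter.unusedSectionVars false

namespace Cfsg.Agent.Omega.EK3.Q.Tree

open Subgroup Cfsg Cfsg.Agent.ZN.ChoiceBase
open Cfsg.Agent.Omega.Frame (Cls)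
open Cfsg.Agent.Omega.NO3S.EThree.Frame (Bg)
open Cfsg.Agent.Omega.Node.MultiOf
open Cfsg.Agent.Omega.ML.Final (MLK)

universe u

/-- **The frame `FrQ` is impossible.** -/
def MidIn : Prop :=
  ∀ (G : Type u) [Group G] [Finite G] (S : Sylow 2 G) (P K B ZJ : Subgroup G) (k : ℕ)
    (L W Z C : Fin k → Subgroup G) (q : ℕ), FrQ S P K B ZJ L W Z C q → (∀ j, IsKGroup (YQ Z j)) →
      NLoc (KZ B ZJ) → False

section kgroups

variable {G : Type u} [Group G] [Finite G] {S : Sylow 2 G} {P K B ZJ : Subgroup G} {k : ℕ}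
  {L W Z C : Fin k → Subgroup G} {q : ℕ}

/-- a subgroup of the centraliser of `x ≠ 1` is a K-group -/
theorem kgroup_of (h : Bg S P B ZJ L W Z C q) {x : G} (hx : x ≠ 1) {X : Subgroup G}
    (hX : ∀ g ∈ X, g * x = x * g) : IsKGroup X := by
  have hG := h.hyp.ctx
  refine hG.kproper _ fun e => ?_
  have hs := hG.simple
  have h1 : x ∈ center G := by
    rw [mem_center_iff]
    intro g
    exact hX g (by rw [e]; exact mem_top g)
  rcases hs.eq_bot_or_eq_top_of_normal (center G) inferInstance with h2 | h2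
  · rw [h2, mem_bot] at h1
    exact hx h1
  · apply hG.nonComm
    refine ⟨⟨fun a b => ?_⟩⟩
    have : a ∈ center G := by rw [h2]; exact mem_top a
    exact (mem_center_iff.mp this b).symm

theorem kgroup_YQ (h : Bg S P B ZJ L W Z C q) (j : Fin k) : IsKGroup (YQ Z j) := by
  obtain ⟨l, hl⟩ := h.two j
  obtain ⟨x, hx⟩ := Subgroup.ne_bot_iff_exists_ne_one.1 (h.Z_ne l)
  exact kgroup_of h (x := x) (fun e => hx (Subtype.ext e)) fun g hg => mem_YQ.1 hg l hl x x.2

end kgroups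

/-- **Row (8)** from `MidIn`. -/
theorem eOf_of (hML : MLK.{u, u}) (hX : ML.Ex.Two.Ext.{u, u}) (hM : MidIn.{u}) (K : Cls.{u}) :
    EOf K fun k q => 3 ≤ k ∧ 4 ≤ q := by
  rintro G _ _ hG S P K' B ZJ k L W Z C q - ⟨h3, h4⟩ h hE
  exact (hM G S P K' B ZJ k L W Z C q (FK.frQ_mul hML hX h h3 h4 hE) (kgroup_YQ h.bg) hE).elim

end Cfsg.Agent.Omega.EK3.Q.Tree
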