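import Cfsg.Agent.Omega.EK3.Q.Par
import Cfsg.Agent.Omega.EK3.Two
import Cfsg.Agent.Omega.OM.Lev.HUMul

/-!
# (E), `k ≥ 3`, `q ≥ 4`: the minimal parabolics over `T_j` on `Y = V_i Z^j / Z^j` and `X = Z_J / Z^j` (bb #24417)

`Zs Z j = ⨆ l ≠ j, Z l`; `h : FrQ ..`, `i ≠ j`:

* `comm_norm` : `R ∈ P(Y_j, T_j)`, `R ≤ N(B)` : `R` is trivial on `W i / Z i`;
* `norm_of_mv` : `R ≤ N(Z_j)` moving some `m ∈ Z_J` which is `T_j`-fixed mod `Z^j` is in `N(B)`;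
* `u1`, `u2`, `nX`, `nY`.
-/

set_option autoImplicit false
set_option linter.unusedSectionVars false
set_option linter.unusedVariables false

namespace Cfsg.Agent.Omega.EK3.Q

open Subgroup Cfsg Cfsg.Agent.ZN.ChoiceBase
open Cfsg.Agent.ZN (jj zj bau zc zl o2)
open Cfsg.Agent.ZN.ChoiceSit (Syl)
open Cfsg.Agent.Omega
open Cfsg.Agent.Omega.OM
open Cfsg.Agent.Omega.NO3S.EThree.Frame
open Cfsg.Agent.Omega.Node.MultiOf
open Cfsg.Agent.Omega.EK3.Two (Zs Z_le_Zs)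
open Cfsg.Agent.MinSimple.MinParabolic (IsMinPar)
open scoped Pointwise

universe u

variable {G : Type u} [Group G] {k : ℕ}

/-- the elements which centralise `Z` and `W / Z` -/
def TrW (W Z : Subgroup G) : Subgroup G where
  carrier := {x | (∀ z ∈ Z, x * z = z * x) ∧ ∀ w ∈ W, x * w * x⁻¹ * w⁻¹ ∈ Z}
  one_mem' := ⟨fun z _ => by simp, fun w _ => by simp⟩
  mul_mem' := by
    rintro a b ⟨ha, ha'⟩ ⟨hb, hb'⟩
    refine ⟨fun z hz => by rw [mul_assoc, hb z hz, ← mul_assoc, ha z hz, mul_assoc], fun w hw => ?_⟩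
    have e : a * b * w * (a * b)⁻¹ * w⁻¹ = a * (b * w * b⁻¹ * w⁻¹) * w * a⁻¹ * w⁻¹ := by group
    rw [e, ha _ (hb' w hw)]
    have e2 : b * w * b⁻¹ * w⁻¹ * a * w * a⁻¹ * w⁻¹ = (b * w * b⁻¹ * w⁻¹) * (a * w * a⁻¹ * w⁻¹) := by group
    rw [e2]
    exact mul_mem (hb' w hw) (ha' w hw)
  inv_mem' := by
    rintro a ⟨ha, ha'⟩
    have hi : ∀ z ∈ Z, a⁻¹ * z = z * a⁻¹ := fun z hz => by
      rw [inv_mul_eq_iff_eq_mul, ← mul_assoc, ha z hz, mul_inv_cancel_right]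
    refine ⟨hi, fun w hw => ?_⟩
    have e : a⁻¹ * w * a⁻¹⁻¹ * w⁻¹ = a⁻¹ * (a * w * a⁻¹ * w⁻¹)⁻¹ * a := by group
    rw [e, hi _ (inv_mem (ha' w hw)), inv_mul_cancel_right]
    exact inv_mem (ha' w hw)

theorem mem_TrW {W Z : Subgroup G} {x : G} :
    x ∈ TrW W Z ↔ (∀ z ∈ Z, x * z = z * x) ∧ ∀ w ∈ W, x * w * x⁻¹ * w⁻¹ ∈ Z := Iff.rfl

theorem cj_TrW_le {W Z : Subgroup G} {r : G} (hW : r ∈ normalizer (W : Set G)) (hZ : r ∈ normalizer (Z : Set G)) :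
    cj r (TrW W Z) ≤ TrW W Z := by
  rintro _ ⟨x, ⟨hx, hx'⟩, rfl⟩
  show r * x * r⁻¹ ∈ TrW W Z
  refine ⟨fun z hz => ?_, fun w hw => ?_⟩
  · have h1 := hx _ ((mem_normalizer_iff''.1 hZ z).1 hz)
    calc r * x * r⁻¹ * z = r * (x * (r⁻¹ * z * r)) * r⁻¹ := by group
      _ = r * (r⁻¹ * z * r * x) * r⁻¹ := by rw [h1]
      _ = z * (r * x * r⁻¹) := by group
  · have h1 := hx' _ ((mem_normalizer_iff''.1 hW w).1 hw)
    have h2 := (mem_normalizer_iff.1 hZ _).1 h1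
    have e : r * (x * (r⁻¹ * w * r) * x⁻¹ * (r⁻¹ * w * r)⁻¹) * r⁻¹ = r * x * r⁻¹ * w * (r * x * r⁻¹)⁻¹ * w⁻¹ := by group
    rwa [e] at h2

namespace FrQ

variable [Finite G] {S : Sylow 2 G} {P K B ZJ : Subgroup G} {L W Z C : Fin k → Subgroup G} {q : ℕ}
  (h : FrQ S P K B ZJ L W Z C q)
include h

theorem Zs_le_ZJ (j : Fin k) : Zs Z j ≤ ZJ := iSup_le fun l => h.bg.fr.Z_le l

omit h in
theorem YQ_Zs {j : Fin k} {c z : G} (hc : c ∈ YQ Z j) (hz : z ∈ Zs Z j) : c * z = z * c := by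
  have h1 : c ∈ centralizer ((Zs Z j : Subgroup G) : Set G) := by
    rw [YQ_eq_cent] at hc
    exact hc
  exact (mem_centralizer_iff.1 h1 z hz).symm

theorem W_comm_Zs {i j : Fin k} {w z : G} (hw : w ∈ W i) (hz : z ∈ Zs Z j) : w * z = z * w :=
  h.bg.fr.Vc (h.bg.fr.WV i hw) (h.bg.fr.ZJV (h.Zs_le_ZJ j hz))

/-- elements of `W i ⊔ Zs Z j` -/
theorem mem_WZ {i j : Fin k} {x : G} (hx : x ∈ W i ⊔ Zs Z j) : ∃ w ∈ W i, ∃ z ∈ Zs Z j, x = w * z :=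
  SQ1.Bau.mem_sup_comm (fun _ ha _ hb => h.W_comm_Zs ha hb) hx

/-- triviality on `W i / Z i` and on `W i Z^j / Z^j` -/
theorem comm_sup {i j : Fin k} (hij : i ≠ j) {p w : G} (hp : p ∈ YQ Z j)
    (hpw : ∀ w ∈ W i, p * w * p⁻¹ * w⁻¹ ∈ Z i) (hw : w ∈ W i ⊔ Zs Z j) : p * w * p⁻¹ * w⁻¹ ∈ Zs Z j := by
  obtain ⟨w, hw', z, hz, rfl⟩ := h.mem_WZ hw
  have e : p * (w * z) * p⁻¹ * (w * z)⁻¹ = p * w * (z * p⁻¹) * z⁻¹ * w⁻¹ := by group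
  have h1 : z * p⁻¹ = p⁻¹ * z := by
    have := YQ_Zs (inv_mem hp) hz
    exact this.symm
  have e2 : p * w * (p⁻¹ * z) * z⁻¹ * w⁻¹ = p * w * p⁻¹ * w⁻¹ := by group
  rw [e, h1, e2]
  exact Z_le_Zs hij (hpw w hw')

/-- `R ∈ P(Y_j, T_j)`, `R ≤ N(B)` : `R` is trivial on `W i / Z i`. -/
theorem comm_norm {i j : Fin k} (hij : i ≠ j) {R : Subgroup G} (hR : IsMinPar (TY S Z j) R) (hRY : R ≤ YQ Z j)
    (hRB : R ≤ normalizer (B : Set G)) : ∀ r ∈ R, ∀ w ∈ W i, r * w * r⁻¹ * w⁻¹ ∈ Z i := by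
  have h1 : R ≤ TrW (W i) (Z i) := by
    refine (HU.gen_cj hR (h.syl_of hR.le hRY)).trans (iSup_le fun r => ?_)
    have h2 := h.fixB (hRB r.2) (hRY r.2) i
    refine (cj_mono (r : G) ?_).trans
      (cj_TrW_le (mem_normalizer_iff_cj.2 h2.1) (mem_normalizer_iff_cj.2 h2.2))
    exact fun t ht => ⟨fun z hz => mem_YQ.1 ht.2 i hij z hz, fun w hw => h.TY_com hij ht hw⟩
  exact fun r hr => (h1 hr).2

/-- the elements of `Y_j` which fix `m` mod `Z^j` -/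
theorem norm_of_mv {j : Fin k} {R : Subgroup G} (hR : IsMinPar (TY S Z j) R) (hRY : R ≤ YQ Z j)
    (hZ : R ≤ normalizer (Z j : Set G)) {m : G} (hm : m ∈ ZJ)
    (hT : ∀ t ∈ TY S Z j, t * m * t⁻¹ * m⁻¹ ∈ Zs Z j) (hmv : ∃ p ∈ R, p * m * p⁻¹ * m⁻¹ ∉ Zs Z j) :
    R ≤ normalizer (B : Set G) := by
  have h1 : TY S Z j ⊓ centralizer (Z j : Set G) = B := by
    refine h.sylD.2.2 _ ?_ ((h.T_two j).to_le inf_le_left) (le_inf (h.B_le_T j) (h.B_le_D.trans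
      (centralizer_le (h.bg.fr.Z_le j))))
    rw [← h.stab j]
    exact inf_le_inf_right _ (h.syl j).1
  rw [← h1]
  refine HU.norm_inf hR (h.syl_of hR.le hRY) (hZ.trans (centralizer_norm _)) fun hle => ?_
  obtain ⟨p, hp, hpm⟩ := hmv
  apply hpm
  have hTn : TY S Z j ≤ normalizer ((R ⊓ centralizer (Z j : Set G) : Subgroup G) : Set G) := fun t ht => by
    rw [mem_normalizer_iff_cj, cj_inf, cj_eq_of_mem_normalizer (Subgroup.le_normalizer (hR.le ht)),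
      cj_centralizer, cj_eq_of_mem_normalizer (hZ (hR.le ht))]
  have h2 : p ∈ TY S Z j ⊔ (R ⊓ centralizer (Z j : Set G)) := by rw [sup_comm]; exact hle hp
  have h3 : p ∈ ((TY S Z j : Set G) * ((R ⊓ centralizer (Z j : Set G) : Subgroup G) : Set G)) := by
    rw [← Subgroup.coe_mul_of_left_le_normalizer_right _ _ hTn]
    exact h2
  obtain ⟨t, ht, c, hc, rfl⟩ := Set.mem_mul.1 h3
  have hcD : c ∈ centralizer (ZJ : Set G) := by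
    rw [← h.stab j]
    exact ⟨hRY hc.1, hc.2⟩
  have hcm : c * m * c⁻¹ = m := by
    rw [← mem_centralizer_iff.1 hcD m hm]
    group
  have e : t * c * m * (t * c)⁻¹ * m⁻¹ = t * (c * m * c⁻¹) * t⁻¹ * m⁻¹ := by group
  rw [e, hcm]
  exact hT t ht

/-- the situation of hU -/
theorem si {j : Fin k} {R : Subgroup G} (hR : IsMinPar (TY S Z j) R) (hRY : R ≤ YQ Z j)
    (hZ : ¬ R ≤ normalizer (Z j : Set G)) : HUMul.Si B Z j (TY S Z j) R :=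
  ⟨hR, h.syl_of hR.le hRY, h.B_le_T j, fun l hl => hRY.trans (YQ_cent hl), hZ⟩

/-- **hU** -/
theorem hU {i j : Fin k} (hij : i ≠ j) {R : Subgroup G} (hR : IsMinPar (TY S Z j) R) (hRY : R ≤ YQ Z j)
    (hZ : ¬ R ≤ normalizer (Z j : Set G)) : ∀ r ∈ R, ∀ w ∈ W i, r * w * r⁻¹ * w⁻¹ ∈ Z i := by
  rcases h.par hR hRY with h1 | ⟨h1, -⟩
  · exact absurd h1 hZ
  · exact (HUMul.hU h.mul (le_trans (by norm_num) h.three) (h.si hR hRY hZ) h1 (Or.inl h.three)).1 i hij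

/-- **(U1)** -/
theorem u1 {i j : Fin k} (hij : i ≠ j) {R : Subgroup G} (hR : IsMinPar (TY S Z j) R) (hRY : R ≤ YQ Z j)
    {m : G} (hm : m ∈ ZJ) (hT : ∀ t ∈ TY S Z j, t * m * t⁻¹ * m⁻¹ ∈ Zs Z j)
    (hmv : ∃ p ∈ R, p * m * p⁻¹ * m⁻¹ ∉ Zs Z j) :
    ∀ p ∈ R, ∀ w ∈ W i ⊔ Zs Z j, p * w * p⁻¹ * w⁻¹ ∈ Zs Z j := by
  intro p hp w hw
  refine h.comm_sup hij (hRY hp) ?_ hw
  by_cases hZ : R ≤ normalizer (Z j : Set G)
  · exact h.comm_norm hij hR hRY (h.norm_of_mv hR hRY hZ hm hT hmv) p hp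
  · exact h.hU hij hR hRY hZ p hp

/-- **(U2)** -/
theorem u2 {i j : Fin k} (hij : i ≠ j) {R : Subgroup G} (hR : IsMinPar (TY S Z j) R) (hRY : R ≤ YQ Z j)
    (hn : ¬ R ≤ normalizer (ZJ : Set G)) :
    (∀ p ∈ R, ∀ w ∈ W i ⊔ Zs Z j, p * w * p⁻¹ * w⁻¹ ∈ Zs Z j) ∧
      R ≤ normalizer ((W j ⊔ Zs Z j : Subgroup G) : Set G) ∧
      ∀ v ∈ W j ⊔ Zs Z j, ∀ w ∈ W j ⊔ Zs Z j, v ∉ Zs Z j → w ∉ Zs Z j →
        ∃ p ∈ R, p * v * p⁻¹ * w⁻¹ ∈ Zs Z j := by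
  have hZ : ¬ R ≤ normalizer (Z j : Set G) := fun hle => hn fun r hr => h.norm_ZJ' (hRY hr) (hle hr)
  rcases h.par hR hRY with h1 | ⟨h1, h2, -⟩
  · exact absurd h1 hZ
  refine ⟨fun p hp w hw => h.comm_sup hij (hRY hp) (h.hU hij hR hRY hZ p hp) hw, ?_, ?_⟩
  · intro r hr
    rw [mem_normalizer_iff_cj]
    have h3 : cj r (Zs Z j) = Zs Z j := by
      refine mem_normalizer_iff_cj.1 (centralizer_le_normalizer _ (mem_centralizer_iff.2 fun z hz => ?_))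
      exact (YQ_Zs (hRY hr) hz).symm
    have h4 : cj r (W j ⊔ Zs Z j) = cj r (W j) ⊔ cj r (Zs Z j) := Subgroup.map_sup _ _ _
    rw [h4, h3, mem_normalizer_iff_cj.1 (h1 hr)]
  · intro v hv w hw hvZ hwZ
    obtain ⟨v, hv', z, hz, rfl⟩ := h.mem_WZ hv
    obtain ⟨w, hw', z', hz', rfl⟩ := h.mem_WZ hw
    have hv1 : v ≠ 1 := by
      rintro rfl
      exact hvZ (by rw [one_mul]; exact hz)
    have hw1 : w ≠ 1 := by
      rintro rfl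
      exact hwZ (by rw [one_mul]; exact hz')
    obtain ⟨p, hp, e⟩ := h2 v hv' w hw' hv1 hw1
    refine ⟨p, hp, ?_⟩
    have h3 : z * p⁻¹ = p⁻¹ * z := (YQ_Zs (inv_mem (hRY hp)) hz).symm
    have h4 : w * (z * z'⁻¹) = (z * z'⁻¹) * w := h.W_comm_Zs hw' (mul_mem hz (inv_mem hz'))
    have e1 : p * (v * z) * p⁻¹ * (w * z')⁻¹ = z * z'⁻¹ := by
      calc p * (v * z) * p⁻¹ * (w * z')⁻¹ = p * v * (z * p⁻¹) * z'⁻¹ * w⁻¹ := by group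
        _ = (p * v * p⁻¹) * (z * z'⁻¹) * w⁻¹ := by rw [h3]; group
        _ = z * z'⁻¹ := by rw [e, h4]; group
    rw [e1]
    exact mul_mem hz (inv_mem hz')

theorem nX (j : Fin k) : YQ Z j ⊓ normalizer (TY S Z j : Set G) ≤ normalizer (ZJ : Set G) :=
  (h.norm_T_le j).trans h.bg.norm_ZJ

theorem nY (i j : Fin k) : YQ Z j ⊓ normalizer (TY S Z j : Set G) ≤
    normalizer ((W i ⊔ Zs Z j : Subgroup G) : Set G) := by
  intro n hn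
  rw [mem_normalizer_iff_cj]
  have h3 : cj n (Zs Z j) = Zs Z j := by
    refine mem_normalizer_iff_cj.1 (centralizer_le_normalizer _ (mem_centralizer_iff.2 fun z hz => ?_))
    exact (YQ_Zs hn.1 hz).symm
  have h4 : cj n (W i ⊔ Zs Z j) = cj n (W i) ⊔ cj n (Zs Z j) := Subgroup.map_sup _ _ _
  rw [h4, h3, (h.fixB (h.norm_T_le j hn) hn.1 i).1]

end FrQ

end Cfsg.Agent.Omega.EK3.Q
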